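import Cfsg.Agent.ChevalleyStructure.Tits.Table
import Mathlib
set_option linter.all false

-- part: ChevalleyStructure/Tits/Cert
section
/-! Certificates for ²F₄(2). -/

set_option autoImplicit false

namespace Cfsg.Agent.ChevalleyStructure.Tits.Cert

open Cfsg.Agent.ChevalleyStructure.Tits.Pack Cfsg.Agent.ChevalleyStructure.Tits.Data

/-- spinning basis -/
def vs : List ℕ := [2251799813685248, 1125899906842624, 70368744177664, 17179869184, 1899956092796928, 112201725640704, 2097152, 2814835666452480, 2040693581152256, 1950653886758912, 1170018886746112, 512, 24253562882, 2392537572573184, 2832359133020160, 2100118748659712, 1948473387646976, 2260630803579392, 1190701930905602, 3171840, 32, 114280047312898, 71744241172995, 22030581766, 1125968760537600, 3237090907127810, 2825865813819904, 2335536110134785, 2278313183937024, 2256199001063456, 2653992933294595, 1172858413776902, 24292877826, 17213690912, 16, 864, 71881779832323, 1932717197787651, 1144076209555491,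 114003214860294, 71469329678863, 19404947462, 3527302427207176, 70369013137440, 2257298791612448, 1128099500531728, 2265038581089124, 3726014137059363, 17347917664, 3700576, 2621520, 928]

/-- spinning steps (letter, parent) -/
def par : List (ℕ × ℕ) := [(0, 0), (8, 0), (9, 1), (8, 2), (7, 2), (0, 3), (9, 3), (8, 4), (7, 4), (7, 5), (9, 5), (8, 6), (7, 6), (9, 7), (8, 8), (7, 9), (9, 9), (8, 10), (7, 10), (0, 11), (9, 11), (0, 12), (8, 12), (7, 12), (8, 13), (7, 13), (8, 16), (0, 17), (7, 17), (9, 17), (8, 18), (7, 18), (7, 19), (9, 19), (8, 20), (7, 20), (0, 22), (7, 22), (9, 22), (0, 23), (8, 23), (7, 23), (0, 24), (9, 24), (9, 28), (8, 29), (7, 29), (9, 30), (7, 33), (0, 35), (8, 35), (7, 35)]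

/-- the packed basis -/
def basisP : ℕ := 0x3a000000002800500000000387760000040a043760d3cca4511482380c0a6407436440200220020108050054a040200400010080020c8810183066080000484a00006041004002020f067af7120000641088001108236ddcbca0682030416047f3e60300000000003600000000000010000040204142000005a7f7e60242ab56120000696dcae206820380400440040208181d2004020084c2860346601a0a1c28040200b801df5a00002400100800020000005212000060414042028203067efe5a000020000000000020000000030660043aefe5a0000280808200402006ec20502000007760c00000000a100400000000880001020000000005a5a00002000000000020042820402000006ee1c000000007400000000000a00140000000000000002000000660c000000006c000000000000000400000000040000000000040000000000008000000000000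

/-- its inverse -/
def basisInv : ℕ := 0x10000000000002000000000c12d000000000c02b000000000c13b0000000000004000115d6bb0a30000000008124000000000c390000000001e568000000502c927000000025a7da0000085820cc30008000a0f17a0000007031b53000000000c1a40001158689cc0000000000000800091d84c3d3a00000100240880008040e6ac19000115a686c22000310c697897000000000e17a000000100c9a6092f1d9bfadbe1203f087b781408040a5977f5801000202546e004538adbd101700000000000402bafffeae5bb7008000010e17e0002054032fc608571b759f53e04799f6fb97421a7ceb06f35f9092e0a3c624f51000a0110c9a6208080018e97e2ff26804f5785328155c70bea400000000008004080c0000e93ec080c0010e13e408040010e13e00000001000000000400000000004000108ebd008271b9fc574700200008010480001155609a1d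

/-- non-membership certificates: generators (words), invariant set of vectors (head is moved out), word -/
def certs : List (List (List ℕ) × List ℕ × List ℕ) := [
  ([[1], [2], [3], [4], [5], [6], [7]], [17592186044416], [0]),
  ([[2], [3], [4], [5], [6], [7]], [4294967296, 17596481011712], [1, 1]),
  ([[3], [4], [5], [6], [7]], [4294967296], [2]),
  ([[4], [5], [6], [7]], [512, 17179869696], [3, 3]),
  ([[5], [6], [7]], [512], [4]),
  ([[6], [7]], [2, 2199023255554], [5, 5]),
  ([[7]], [2], [6]),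
  ([], [1], [7, 7]),
  ([[9, 7, 7]], [2164260865], [8, 9, 8, 9, 7, 7, 8, 9, 8]),
  ([], [1], [9, 7, 7]),
  ([], [2], [8, 0]),
  ([], [1], [8, 7, 7, 9])]

/-- action of a word on a packed vector -/
def evalV (w : List ℕ) (v : ℕ) : ℕ := w.foldr (fun i acc => mulP (LP i) acc) v

/-- check of a certificate -/
def chkC (c : List (List ℕ) × List ℕ × List ℕ) : Bool :=
  (c.1.all fun w => c.2.1.all fun u => c.2.1.any fun u' => Nat.beq (evalV w u) u') &&
  (c.2.1.all fun u => Nat.blt u 4503599627370496) && (c.2.1.any fun v =>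
    Nat.blt (evalV c.2.2 v) 4503599627370496 && c.2.1.all fun u => !(Nat.beq (evalV c.2.2 v) u))

theorem certs_ok : certs.all chkC = true := by decide +kernel

theorem basis_ok : Nat.beq (mulP basisP basisInv) oneP = true := by decide +kernel

theorem basis_cols : (List.range 52).all (fun j => Nat.beq ((basisP >>> (52 * j)) % 4503599627370496) (vs.getD j 0)) = true := by
  decide +kernel

theorem spin_ok : (List.range 51).all (fun k => Nat.ble (par.getD (k + 1) (0, 0)).2 k &&
    Nat.blt (par.getD (k + 1) (0, 0)).1 10 &&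
    Nat.beq (mulP (LP (par.getD (k + 1) (0, 0)).1) (vs.getD (par.getD (k + 1) (0, 0)).2 0)) (vs.getD (k + 1) 0)) = true := by
  decide +kernel

theorem fix_ok : (List.range 8).all (fun i => Nat.beq (mulP (LP i) 2251799813685248) 2251799813685248) = true := by
  decide +kernel

theorem pow4_ok : (List.range 12).all (fun i => chk ([i, i, i, i], [])) = true := by decide +kernel

theorem lt_ok : (rels ++ ext.take 6 ++ ext.drop 14).all (fun p => p.1.all (fun i => Nat.blt i 12) && p.2.all (fun i => Nat.blt i 12)) = true := by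
  decide +kernel

end Cfsg.Agent.ChevalleyStructure.Tits.Cert
end

-- part: ChevalleyStructure/Tits/Rank2
section
/-! Abstract rank 2 counting and overgroup lemmas (Weyl group of order 16), used for ²F₄(2). -/

set_option autoImplicit false

namespace Cfsg.Agent.ChevalleyStructure.Tits.Rank2

variable {Γ : Type*} [Group Γ]

/-- alternating product `n s * n (!s) * ⋯` with `k` factors -/
def w (n : Bool → Γ) : Bool → ℕ → Γ
  | _, 0 => 1
  | s, k + 1 => n s * w n (!s) k

theorem w_zero (n : Bool → Γ) (s : Bool) : w n s 0 = 1 := rfl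
theorem w_succ (n : Bool → Γ) (s : Bool) (k : ℕ) : w n s (k + 1) = n s * w n (!s) k := rfl

/-- rank 2 data with Weyl group of order 16 and trivial torus -/
structure RD (Γ : Type*) [Group Γ] where
  n : Bool → Γ
  X : Bool → Subgroup Γ
  K : Bool → Subgroup Γ
  U : Subgroup Γ
  nn : ∀ s, n s * n s = 1
  XU : ∀ s, X s ≤ U
  KU : ∀ s, K s ≤ U
  fac : ∀ s, ∀ u ∈ U, ∃ x ∈ X s, ∃ k ∈ K s, u = x * k
  nK : ∀ s, ∀ k ∈ K s, n s * k * n s ∈ K s
  rk1 : ∀ s, ∀ x ∈ X s, x ≠ 1 → ∃ a ∈ X s, ∃ b ∈ X s, n s * x * n s = a * n s * b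
  wX : ∀ s k, k < 8 → ∀ x ∈ X s, (w n (!s) k)⁻¹ * x * w n (!s) k ∈ U
  w8 : w n false 8 = w n true 8

namespace RD

variable (D : RD Γ)

theorem ninv (s : Bool) : (D.n s)⁻¹ = D.n s := inv_eq_of_mul_eq_one_left (D.nn s)

theorem fac' (s : Bool) (u : Γ) (hu : u ∈ D.U) : ∃ k ∈ D.K s, ∃ x ∈ D.X s, u = k * x := by
  obtain ⟨x, hx, k, hk, h⟩ := D.fac s u⁻¹ (D.U.inv_mem hu)
  refine ⟨k⁻¹, (D.K s).inv_mem hk, x⁻¹, (D.X s).inv_mem hx, ?_⟩
  rw [← mul_inv_rev, ← h, inv_inv]

/-- the double coset `U w U` -/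
def cell (s : Bool) (k : ℕ) : Set Γ := {g | ∃ u ∈ D.U, ∃ v ∈ D.U, g = u * w D.n s k * v}

theorem mul_mem_cell {s : Bool} {k : ℕ} {u g : Γ} (hu : u ∈ D.U) (hg : g ∈ D.cell s k) :
    u * g ∈ D.cell s k := by
  obtain ⟨a, ha, b, hb, rfl⟩ := hg
  exact ⟨u * a, D.U.mul_mem hu ha, b, hb, by group⟩

theorem cell_zero (s : Bool) : D.cell s 0 = (D.U : Set Γ) := by
  ext g
  constructor
  · rintro ⟨u, hu, v, hv, rfl⟩
    rw [w_zero, mul_one]
    exact D.U.mul_mem hu hv
  · intro hg
    exact ⟨g, hg, 1, D.U.one_mem, by rw [w_zero]; group⟩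

theorem cell_succ {s : Bool} {k : ℕ} {g : Γ} (hg : g ∈ D.cell s (k + 1)) :
    ∃ x ∈ D.X s, ∃ c ∈ D.cell (!s) k, g = x * D.n s * c := by
  obtain ⟨u, hu, v, hv, rfl⟩ := hg
  obtain ⟨x, hx, y, hy, rfl⟩ := D.fac s u hu
  refine ⟨x, hx, (D.n s * y * D.n s) * w D.n (!s) k * v,
    ⟨_, D.KU s (D.nK s y hy), v, hv, rfl⟩, ?_⟩
  rw [w_succ]
  have h : D.n s * (D.n s * y * D.n s) = y * D.n s := by
    calc D.n s * (D.n s * y * D.n s) = (D.n s * D.n s) * y * D.n s := by group
      _ = y * D.n s := by rw [D.nn s]; group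
  calc x * y * (D.n s * w D.n (!s) k) * v = x * (y * D.n s) * w D.n (!s) k * v := by group
    _ = x * (D.n s * (D.n s * y * D.n s)) * w D.n (!s) k * v := by rw [h]
    _ = x * D.n s * (D.n s * y * D.n s * w D.n (!s) k * v) := by group

theorem n_mul_up {s : Bool} {k : ℕ} (hk : k < 8) {g : Γ} (hg : g ∈ D.cell (!s) k) :
    D.n s * g ∈ D.cell s (k + 1) := by
  obtain ⟨u, hu, v, hv, rfl⟩ := hg
  obtain ⟨y, hy, x, hx, rfl⟩ := D.fac' s u hu
  refine ⟨D.n s * y * D.n s, D.KU s (D.nK s y hy),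
    ((w D.n (!s) k)⁻¹ * x * w D.n (!s) k) * v, D.U.mul_mem (D.wX s k hk x hx) hv, ?_⟩
  rw [w_succ]
  have h : D.n s * y * D.n s * D.n s = D.n s * y := by
    calc D.n s * y * D.n s * D.n s = D.n s * y * (D.n s * D.n s) := by group
      _ = D.n s * y := by rw [D.nn s]; group
  calc D.n s * (y * x * w D.n (!s) k * v) = (D.n s * y) * x * w D.n (!s) k * v := by group
    _ = (D.n s * y * D.n s * D.n s) * x * w D.n (!s) k * v := by rw [h]
    _ = _ := by group

theorem n_mul_down {s : Bool} {k : ℕ} (hk : k < 8) {g : Γ} (hg : g ∈ D.cell s (k + 1)) :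
    D.n s * g ∈ D.cell (!s) k ∨ D.n s * g ∈ D.cell s (k + 1) := by
  obtain ⟨x, hx, c, hc, rfl⟩ := D.cell_succ hg
  by_cases h1 : x = 1
  · left
    subst h1
    have : D.n s * (1 * D.n s * c) = c := by
      calc D.n s * (1 * D.n s * c) = (D.n s * D.n s) * c := by group
        _ = c := by rw [D.nn s, one_mul]
    rw [this]; exact hc
  · right
    obtain ⟨a, ha, b, hb, h⟩ := D.rk1 s x hx h1
    have h2 : D.n s * (x * D.n s * c) = a * (D.n s * (b * c)) := by
      calc D.n s * (x * D.n s * c) = (D.n s * x * D.n s) * c := by group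
        _ = a * D.n s * b * c := by rw [h]
        _ = _ := by group
    rw [h2]
    exact D.mul_mem_cell (D.XU s ha) (D.n_mul_up hk (D.mul_mem_cell (D.XU s hb) hc))

/-- union of all cells -/
def All : Set Γ := {g | ∃ s k, k ≤ 8 ∧ g ∈ D.cell s k}

theorem cell_eight (s t : Bool) : D.cell s 8 = D.cell t 8 := by
  have h : w D.n s 8 = w D.n t 8 := by
    cases s <;> cases t <;> first | rfl | exact D.w8 | exact D.w8.symm
  unfold cell
  rw [h]

theorem n_mul_mem_All (t : Bool) {g : Γ} (hg : g ∈ D.All) : D.n t * g ∈ D.All := by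
  obtain ⟨s, k, hk, hg⟩ := hg
  -- a cell starting with `t`
  have key : ∀ k ≤ 8, g ∈ D.cell t k → D.n t * g ∈ D.All := by
    intro k hk hg
    rcases k with _ | k
    · have h0 : g ∈ D.cell (!t) 0 := by rw [cell_zero] at hg ⊢; exact hg
      exact ⟨t, 1, by norm_num, D.n_mul_up (by norm_num) h0⟩
    · rcases D.n_mul_down (by omega) hg with h | h
      · exact ⟨!t, k, by omega, h⟩
      · exact ⟨t, k + 1, hk, h⟩
  by_cases hs : s = t
  · subst hs; exact key k hk hg
  · have hs2 : s = !t := by cases s <;> cases t <;> simp_all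
    subst hs2
    rcases Nat.lt_or_ge k 8 with h | h
    · exact ⟨t, k + 1, by omega, D.n_mul_up h hg⟩
    · have : k = 8 := by omega
      subst this
      rw [D.cell_eight _ t] at hg
      exact key 8 le_rfl hg

theorem U_mul_mem_All {u g : Γ} (hu : u ∈ D.U) (hg : g ∈ D.All) : u * g ∈ D.All := by
  obtain ⟨s, k, hk, hg⟩ := hg
  exact ⟨s, k, hk, D.mul_mem_cell hu hg⟩

/-- the group generated by `U` and the two reflections -/
def G : Subgroup Γ := Subgroup.closure ((D.U : Set Γ) ∪ Set.range D.n)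

theorem G_subset_All : (D.G : Set Γ) ⊆ D.All := by
  intro g hg
  have hg' : g ∈ Subgroup.closure ((D.U : Set Γ) ∪ Set.range D.n) := hg
  induction hg' using Subgroup.closure_induction_left with
  | one => exact ⟨true, 0, by norm_num, by rw [cell_zero]; exact D.U.one_mem⟩
  | mul_left x hx y hy ih =>
    rcases hx with hx | ⟨s, rfl⟩
    · exact D.U_mul_mem_All hx (ih hy)
    · exact D.n_mul_mem_All s (ih hy)
  | inv_mul_cancel x hx y hy ih =>
    rcases hx with hx | ⟨s, rfl⟩
    · exact D.U_mul_mem_All (D.U.inv_mem hx) (ih hy)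
    · rw [D.ninv]; exact D.n_mul_mem_All s (ih hy)

/-- size bounds -/
def q : Bool → ℕ → ℕ
  | _, 0 => 1
  | s, k + 1 => (if s then 4 else 2) * q (!s) k

theorem cell_card (hX : ∀ s, (D.X s : Set Γ).Finite ∧ (D.X s : Set Γ).ncard ≤ if s then 4 else 2)
    {c : ℕ} (hU : (D.U : Set Γ).Finite ∧ (D.U : Set Γ).ncard ≤ c) (k : ℕ) :
    ∀ s, (D.cell s k).Finite ∧ (D.cell s k).ncard ≤ q s k * c := by
  induction k with
  | zero => intro s; rw [cell_zero]; simpa [q] using hU
  | succ k ih =>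
    intro s
    obtain ⟨ih1, ih2⟩ := ih (!s)
    have hsub : D.cell s (k + 1) ⊆ (fun p : Γ × Γ => p.1 * D.n s * p.2) '' ((D.X s : Set Γ) ×ˢ D.cell (!s) k) := by
      intro g hg
      obtain ⟨x, hx, c, hc, rfl⟩ := D.cell_succ hg
      exact ⟨(x, c), ⟨hx, hc⟩, rfl⟩
    have hfin : ((D.X s : Set Γ) ×ˢ D.cell (!s) k).Finite := (hX s).1.prod ih1
    refine ⟨(hfin.image _).subset hsub, ?_⟩
    calc (D.cell s (k + 1)).ncard ≤ _ := Set.ncard_le_ncard hsub (hfin.image _)
      _ ≤ ((D.X s : Set Γ) ×ˢ D.cell (!s) k).ncard := Set.ncard_image_le hfin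
      _ = (D.X s : Set Γ).ncard * (D.cell (!s) k).ncard := Set.ncard_prod
      _ ≤ (if s then 4 else 2) * (q (!s) k * c) := Nat.mul_le_mul (hX s).2 ih2
      _ = q s (k + 1) * c := by rw [q]; ring

theorem All_eq : D.All = (⋃ k ∈ Finset.range 9, D.cell false k) ∪ (⋃ k ∈ Finset.range 7, D.cell true (k + 1)) := by
  ext g
  constructor
  · rintro ⟨s, k, hk, hg⟩
    rcases s with _ | _
    · left
      simp only [Set.mem_iUnion]
      exact ⟨k, Finset.mem_range.mpr (by omega), hg⟩
    · rcases k with _ | k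
      · left
        simp only [Set.mem_iUnion]
        refine ⟨0, Finset.mem_range.mpr (by omega), ?_⟩
        rw [cell_zero] at hg ⊢; exact hg
      · by_cases h : k = 7
        · left
          subst h
          simp only [Set.mem_iUnion]
          refine ⟨8, Finset.mem_range.mpr (by omega), ?_⟩
          rw [D.cell_eight _ true]; exact hg
        · right
          simp only [Set.mem_iUnion]
          exact ⟨k, Finset.mem_range.mpr (by omega), hg⟩
  · rintro (h | h)
    · simp only [Set.mem_iUnion] at h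
      obtain ⟨k, hk, hg⟩ := h
      exact ⟨false, k, by have := Finset.mem_range.mp hk; omega, hg⟩
    · simp only [Set.mem_iUnion] at h
      obtain ⟨k, hk, hg⟩ := h
      exact ⟨true, k + 1, by have := Finset.mem_range.mp hk; omega, hg⟩

theorem ncard_biUnion_le (f : ℕ → Set Γ) (n : ℕ) :
    (⋃ k ∈ Finset.range n, f k).ncard ≤ ∑ k ∈ Finset.range n, (f k).ncard := by
  induction n with
  | zero => simp
  | succ n ih =>
    rw [Finset.sum_range_succ]
    have : (⋃ k ∈ Finset.range (n + 1), f k) = (⋃ k ∈ Finset.range n, f k) ∪ f n := by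
      ext x
      simp only [Set.mem_iUnion, Finset.mem_range, Set.mem_union]
      constructor
      · rintro ⟨k, hk, hx⟩
        rcases Nat.lt_or_ge k n with h | h
        · exact Or.inl ⟨k, h, hx⟩
        · have : k = n := by omega
          subst this; exact Or.inr hx
      · rintro (⟨k, hk, hx⟩ | hx)
        · exact ⟨k, by omega, hx⟩
        · exact ⟨n, by omega, hx⟩
    rw [this]
    exact (Set.ncard_union_le _ _).trans (Nat.add_le_add_right ih _)

theorem All_card (hX : ∀ s, (D.X s : Set Γ).Finite ∧ (D.X s : Set Γ).ncard ≤ if s then 4 else 2)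
    (hU : (D.U : Set Γ).Finite ∧ (D.U : Set Γ).ncard ≤ 4096) :
    D.All.Finite ∧ D.All.ncard ≤ 35942400 := by
  have h := fun k s => D.cell_card hX hU k s
  rw [D.All_eq]
  constructor
  · apply Set.Finite.union
    · exact Set.Finite.biUnion (Finset.finite_toSet _) (fun k _ => (h k false).1)
    · exact Set.Finite.biUnion (Finset.finite_toSet _) (fun k _ => (h (k + 1) true).1)
  · refine (Set.ncard_union_le _ _).trans ?_
    have h1 := (ncard_biUnion_le (fun k => D.cell false k) 9).trans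
      (Finset.sum_le_sum (fun k _ => (h k false).2))
    have h2 := (ncard_biUnion_le (fun k => D.cell true (k + 1)) 7).trans
      (Finset.sum_le_sum (fun k _ => (h (k + 1) true).2))
    have h3 : ∑ k ∈ Finset.range 9, q false k * 4096 = 5851 * 4096 := by decide +kernel
    have h4 : ∑ k ∈ Finset.range 7, q true (k + 1) * 4096 = 2924 * 4096 := by decide +kernel
    rw [h3] at h1
    rw [h4] at h2
    calc _ ≤ 5851 * 4096 + 2924 * 4096 := Nat.add_le_add h1 h2
      _ = 35942400 := by norm_num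

theorem G_card (hX : ∀ s, (D.X s : Set Γ).Finite ∧ (D.X s : Set Γ).ncard ≤ if s then 4 else 2)
    (hU : (D.U : Set Γ).Finite ∧ (D.U : Set Γ).ncard ≤ 4096) :
    Finite D.G ∧ Nat.card D.G ≤ 35942400 := by
  obtain ⟨h1, h2⟩ := D.All_card hX hU
  have h3 : (D.G : Set Γ).Finite := h1.subset D.G_subset_All
  refine ⟨h3, ?_⟩
  have h4 : Nat.card D.G = (D.G : Set Γ).ncard := rfl
  rw [h4]
  exact (Set.ncard_le_ncard D.G_subset_All h1).trans h2

/-- a subgroup over `U` containing `w s (k+1)` contains `n s` -/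
theorem n_mem_of_w_mem (hne : ∀ s, ∃ x ∈ D.X s, x ≠ 1) {H : Subgroup Γ} (hH : D.U ≤ H) {s : Bool} {k : ℕ}
    (hk : k < 8) (h : w D.n s (k + 1) ∈ H) : D.n s ∈ H := by
  obtain ⟨x, hx, hx1⟩ := hne s
  have h1 := hH (D.wX s k hk x hx)
  have h2 := H.mul_mem (H.mul_mem h h1) (H.inv_mem h)
  have h3 : w D.n s (k + 1) * ((w D.n (!s) k)⁻¹ * x * w D.n (!s) k) * (w D.n s (k + 1))⁻¹ = D.n s * x * D.n s := by
    rw [w_succ]
    nth_rewrite 4 [← D.ninv s]
    group
  rw [h3] at h2
  obtain ⟨a, ha, b, hb, h4⟩ := D.rk1 s x hx hx1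
  rw [h4] at h2
  have h5 := H.mul_mem (H.mul_mem (H.inv_mem (hH (D.XU s ha))) h2) (H.inv_mem (hH (D.XU s hb)))
  have h6 : a⁻¹ * (a * D.n s * b) * b⁻¹ = D.n s := by group
  rwa [h6] at h5

theorem exists_n_mem (hne : ∀ s, ∃ x ∈ D.X s, x ≠ 1) {H : Subgroup Γ} (hH : D.U ≤ H) {g : Γ}
    (hg : g ∈ H) (hA : g ∈ D.All) (hgU : g ∉ D.U) : ∃ s, D.n s ∈ H := by
  obtain ⟨s, k, hk, hg2⟩ := hA
  rcases k with _ | k
  · rw [cell_zero] at hg2; exact absurd hg2 hgU
  · obtain ⟨u, hu, v, hv, rfl⟩ := hg2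
    refine ⟨s, D.n_mem_of_w_mem hne hH (k := k) (by omega) ?_⟩
    have h5 := H.mul_mem (H.mul_mem (H.inv_mem (hH hu)) hg) (H.inv_mem (hH hv))
    have h6 : u⁻¹ * (u * w D.n s (k + 1) * v) * v⁻¹ = w D.n s (k + 1) := by group
    rwa [h6] at h5

/-- A normal subgroup not inside `U` supplements `U`. -/
theorem normal_sup_U (hG : D.G = ⊤) (hne : ∀ s, ∃ x ∈ D.X s, x ≠ 1) (N : Subgroup Γ) [hN : N.Normal]
    (hNU : ¬ N ≤ D.U) : N ⊔ D.U = ⊤ := by
  have hAll : ∀ g : Γ, g ∈ D.All := by
    intro g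
    apply D.G_subset_All
    rw [hG]; trivial
  obtain ⟨g, hgN, hgU⟩ := SetLike.not_le_iff_exists.mp hNU
  have hUH : D.U ≤ N ⊔ D.U := le_sup_right
  have hNH : N ≤ N ⊔ D.U := le_sup_left
  obtain ⟨s, hs⟩ := D.exists_n_mem hne hUH (hNH hgN) (hAll g) hgU
  have ht : D.n (!s) ∈ N ⊔ D.U := by
    obtain ⟨m, hm, u, hu, hmu⟩ := Subgroup.mem_sup_of_normal_left.mp hs
    -- m = n s * u⁻¹
    obtain ⟨k, hk, x, hx, hkx⟩ := D.fac' (!s) u⁻¹ (D.U.inv_mem hu)
    have hm1 : m = D.n s * k * x := by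
      rw [mul_assoc, ← hkx, ← hmu]; group
    have h1 : x * m * x⁻¹ ∈ N := hN.conj_mem m hm x
    have h2 : D.n (!s) * (x * m * x⁻¹) * (D.n (!s))⁻¹ ∈ N := hN.conj_mem _ h1 _
    have h3 : D.n (!s) * (x * m * x⁻¹) * (D.n (!s))⁻¹ =
        w D.n (!s) 3 * (((w D.n s 2)⁻¹ * x * w D.n s 2) * (D.n (!s) * k * D.n (!s))) := by
      rw [hm1]
      simp only [w_succ, w_zero, Bool.not_not, mul_one]
      rw [D.ninv (!s)]
      have h4 : (D.n s * D.n (!s))⁻¹ = D.n (!s) * D.n s := by
        rw [mul_inv_rev, D.ninv, D.ninv]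
      rw [h4]
      have e1 := D.nn s
      have e2 := D.nn (!s)
      calc D.n (!s) * (x * (D.n s * k * x) * x⁻¹) * D.n (!s)
          = D.n (!s) * x * D.n s * (k * D.n (!s)) := by group
        _ = D.n (!s) * x * D.n s * (1 * k * D.n (!s)) := by rw [one_mul]
        _ = D.n (!s) * x * D.n s * ((D.n (!s) * D.n (!s)) * k * D.n (!s)) := by rw [e2]
        _ = D.n (!s) * 1 * x * (D.n s * D.n (!s)) * (D.n (!s) * k * D.n (!s)) := by group
        _ = D.n (!s) * (D.n s * 1 * D.n s) * x * (D.n s * D.n (!s)) * (D.n (!s) * k * D.n (!s)) := by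
            rw [mul_one (D.n s), e1]
        _ = D.n (!s) * (D.n s * (D.n (!s) * D.n (!s)) * D.n s) * x * (D.n s * D.n (!s)) *
              (D.n (!s) * k * D.n (!s)) := by rw [e2]
        _ = _ := by group
    rw [h3] at h2
    have h5 : ((w D.n s 2)⁻¹ * x * w D.n s 2) ∈ D.U := by
      have := D.wX (!s) 2 (by norm_num) x hx
      rwa [Bool.not_not] at this
    have h6 : (((w D.n s 2)⁻¹ * x * w D.n s 2) * (D.n (!s) * k * D.n (!s))) ∈ N ⊔ D.U :=
      hUH (D.U.mul_mem h5 (D.KU _ (D.nK _ k hk)))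
    have h7 := (N ⊔ D.U).mul_mem (hNH h2) ((N ⊔ D.U).inv_mem h6)
    rw [mul_inv_cancel_right] at h7
    exact D.n_mem_of_w_mem hne hUH (k := 2) (by norm_num) h7
  rw [eq_top_iff, ← hG]
  unfold G
  rw [Subgroup.closure_le]
  rintro x (hx | ⟨t, rfl⟩)
  · exact hUH hx
  · by_cases h : t = s
    · subst h; exact hs
    · have : t = !s := by cases s <;> cases t <;> simp_all
      rw [this]; exact ht

end RD

end Cfsg.Agent.ChevalleyStructure.Tits.Rank2
end

-- part: ChevalleyStructure/Tits/Sat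
section
/-! Any group with letters satisfying the relations has rank 2 data; the generated group has order at most
35942400. -/

set_option autoImplicit false

namespace Cfsg.Agent.ChevalleyStructure.Tits.Sat

open Cfsg.Agent.ChevalleyStructure.Tits.Data Cfsg.Agent.ChevalleyStructure.Tits.Rank2

variable {Γ : Type*} [Group Γ]

/-- the letters satisfy the relations -/
def Sat (y : ℕ → Γ) : Prop := ∀ p ∈ rels, (p.1.map y).prod = (p.2.map y).prod

theorem conj_zpowers {K : Subgroup Γ} {g : Γ} {m : ℕ} (hm : 0 < m) (hg : g ^ m = 1)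
    (h : ∀ k ∈ K, g * k * g⁻¹ ∈ K) : ∀ x ∈ Subgroup.zpowers g, ∀ k ∈ K, x * k * x⁻¹ ∈ K := by
  intro x hx k hk
  have hfin : IsOfFinOrder g := isOfFinOrder_iff_pow_eq_one.mpr ⟨m, hm, hg⟩
  rw [← hfin.mem_powers_iff_mem_zpowers] at hx
  obtain ⟨n, rfl⟩ := hx
  simp only
  induction n with
  | zero => simpa using hk
  | succ n ih =>
    have : g ^ (n + 1) * k * (g ^ (n + 1))⁻¹ = g * (g ^ n * k * (g ^ n)⁻¹) * g⁻¹ := by
      rw [pow_succ']; group
    rw [this]
    exact h _ ih

theorem conj_closure {S : Set Γ} {K : Subgroup Γ} {g : Γ} (h : ∀ s ∈ S, g * s * g⁻¹ ∈ K) :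
    ∀ k ∈ Subgroup.closure S, g * k * g⁻¹ ∈ K := by
  intro k hk
  induction hk using Subgroup.closure_induction with
  | mem x hx => exact h x hx
  | one => simpa using K.one_mem
  | mul a b _ _ ha hb =>
    have : g * (a * b) * g⁻¹ = (g * a * g⁻¹) * (g * b * g⁻¹) := by group
    rw [this]; exact K.mul_mem ha hb
  | inv a _ ha =>
    have : g * a⁻¹ * g⁻¹ = (g * a * g⁻¹)⁻¹ := by group
    rw [this]; exact K.inv_mem ha

theorem mem_sup_fac {X K : Subgroup Γ} (h : ∀ x ∈ X, ∀ k ∈ K, x * k * x⁻¹ ∈ K) :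
    ∀ g ∈ X ⊔ K, ∃ x ∈ X, ∃ k ∈ K, g = x * k := by
  intro g hg
  rw [Subgroup.sup_eq_closure] at hg
  have key : ∀ a ∈ (X : Set Γ) ∪ (K : Set Γ), ∀ y : Γ, (∃ x ∈ X, ∃ k ∈ K, y = x * k) →
      ∃ x ∈ X, ∃ k ∈ K, a * y = x * k := by
    rintro a (ha | ha) y ⟨x, hx, k, hk, rfl⟩
    · exact ⟨a * x, X.mul_mem ha hx, k, hk, by group⟩
    · refine ⟨x, hx, (x⁻¹ * a * x⁻¹⁻¹) * k, K.mul_mem (h _ (X.inv_mem hx) _ ha) hk, by group⟩
  induction hg using Subgroup.closure_induction_left with
  | one => exact ⟨1, X.one_mem, 1, K.one_mem, by group⟩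
  | mul_left x hx y hy ih => exact key x hx y ih
  | inv_mul_cancel x hx y hy ih =>
    refine key x⁻¹ ?_ y ih
    rcases hx with hx | hx
    · exact Or.inl (X.inv_mem hx)
    · exact Or.inr (K.inv_mem hx)

theorem card_sup_le {X K : Subgroup Γ} (h : ∀ x ∈ X, ∀ k ∈ K, x * k * x⁻¹ ∈ K) {a b : ℕ}
    (hX : (X : Set Γ).Finite ∧ (X : Set Γ).ncard ≤ a) (hK : (K : Set Γ).Finite ∧ (K : Set Γ).ncard ≤ b) :
    ((X ⊔ K : Subgroup Γ) : Set Γ).Finite ∧ ((X ⊔ K : Subgroup Γ) : Set Γ).ncard ≤ a * b := by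
  have hsub : ((X ⊔ K : Subgroup Γ) : Set Γ) ⊆ (fun p : Γ × Γ => p.1 * p.2) '' ((X : Set Γ) ×ˢ (K : Set Γ)) := by
    intro g hg
    obtain ⟨x, hx, k, hk, rfl⟩ := mem_sup_fac h g hg
    exact ⟨(x, k), ⟨hx, hk⟩, rfl⟩
  have hfin : ((X : Set Γ) ×ˢ (K : Set Γ)).Finite := hX.1.prod hK.1
  refine ⟨(hfin.image _).subset hsub, ?_⟩
  calc _ ≤ _ := Set.ncard_le_ncard hsub (hfin.image _)
    _ ≤ ((X : Set Γ) ×ˢ (K : Set Γ)).ncard := Set.ncard_image_le hfin
    _ = (X : Set Γ).ncard * (K : Set Γ).ncard := Set.ncard_prod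
    _ ≤ a * b := Nat.mul_le_mul hX.2 hK.2

theorem zpowers_card {g : Γ} {m : ℕ} (hm : 0 < m) (hg : g ^ m = 1) :
    (Subgroup.zpowers g : Set Γ).Finite ∧ (Subgroup.zpowers g : Set Γ).ncard ≤ m := by
  have hfin : IsOfFinOrder g := isOfFinOrder_iff_pow_eq_one.mpr ⟨m, hm, hg⟩
  refine ⟨hfin.finite_zpowers, ?_⟩
  have h1 : (Subgroup.zpowers g : Set Γ).ncard = Nat.card (Subgroup.zpowers g) := rfl
  rw [h1, Nat.card_zpowers]
  exact Nat.le_of_dvd hm (orderOf_dvd_of_pow_eq_one hg)

/-- the subgroup generated by the letters `k, …, 7` -/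
def V (y : ℕ → Γ) (k : ℕ) : Subgroup Γ := Subgroup.closure (y '' {i | k ≤ i ∧ i < 8})

/-- the subgroup generated by the letters `0, …, 6` -/
def V' (y : ℕ → Γ) : Subgroup Γ := Subgroup.closure (y '' {i | i < 7})

theorem mem_V (y : ℕ → Γ) {k i : ℕ} (h1 : k ≤ i) (h2 : i < 8) : y i ∈ V y k :=
  Subgroup.subset_closure ⟨i, ⟨h1, h2⟩, rfl⟩

theorem mem_V' (y : ℕ → Γ) {i : ℕ} (h : i < 7) : y i ∈ V' y :=
  Subgroup.subset_closure ⟨i, h, rfl⟩

theorem V_mono (y : ℕ → Γ) {k l : ℕ} (h : k ≤ l) : V y l ≤ V y k :=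
  Subgroup.closure_mono (Set.image_mono (fun _ hi => ⟨h.trans hi.1, hi.2⟩))

theorem V'_le (y : ℕ → Γ) : V' y ≤ V y 0 :=
  Subgroup.closure_mono (Set.image_mono (fun i (hi : i < 7) => ⟨Nat.zero_le _, by omega⟩))

theorem V_eight (y : ℕ → Γ) : V y 8 = ⊥ := by
  unfold V
  have : {i | 8 ≤ i ∧ i < 8} = (∅ : Set ℕ) := by
    ext i; simp only [Set.mem_ofPred_eq, Set.mem_empty_iff_false, iff_false]; omega
  rw [this, Set.image_empty, Subgroup.closure_empty]

theorem V_succ (y : ℕ → Γ) {k : ℕ} (hk : k < 8) : V y k = Subgroup.zpowers (y k) ⊔ V y (k + 1) := by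
  apply le_antisymm
  · unfold V
    rw [Subgroup.closure_le]
    rintro _ ⟨i, ⟨hi1, hi2⟩, rfl⟩
    by_cases h : i = k
    · subst h
      exact (le_sup_left : Subgroup.zpowers (y i) ≤ _) (Subgroup.mem_zpowers _)
    · exact (le_sup_right : V y (k + 1) ≤ _) (mem_V y (by omega) hi2)
  · apply sup_le
    · rw [Subgroup.zpowers_le]; exact mem_V y le_rfl hk
    · exact V_mono y (Nat.le_succ k)

theorem V_zero' (y : ℕ → Γ) : V y 0 = Subgroup.zpowers (y 7) ⊔ V' y := by
  apply le_antisymm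
  · unfold V
    rw [Subgroup.closure_le]
    rintro _ ⟨i, ⟨hi1, hi2⟩, rfl⟩
    by_cases h : i = 7
    · subst h
      exact (le_sup_left : Subgroup.zpowers (y 7) ≤ _) (Subgroup.mem_zpowers _)
    · exact (le_sup_right : V' y ≤ _) (mem_V' y (by omega))
  · apply sup_le
    · rw [Subgroup.zpowers_le]; exact mem_V y (by norm_num) (by norm_num)
    · exact V'_le y

theorem list_prod_mem {K : Subgroup Γ} (y : ℕ → Γ) (l : List ℕ) (h : ∀ i ∈ l, y i ∈ K) : (l.map y).prod ∈ K := by
  induction l with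
  | nil => simp
  | cons a l ih =>
    rw [List.map_cons, List.prod_cons]
    exact K.mul_mem (h a List.mem_cons_self) (ih (fun i hi => h i (List.mem_cons_of_mem a hi)))

theorem rel_conj_aux : ∀ i < 8, ∀ j < 8, i < j → (rels.any fun p => p.1 == [i, j] && (p.2 == p.2.dropLast ++ [i] &&
    p.2.dropLast.all fun l => Nat.ble (i + 1) l && Nat.blt l 8)) = true := by decide +kernel

theorem rel_conj (i : ℕ) (hi : i < 8) (j : ℕ) (hj : j < 8) (hij : i < j) :
    ∃ p ∈ rels, p.1 = [i, j] ∧ p.2 = p.2.dropLast ++ [i] ∧ ∀ l ∈ p.2.dropLast, i + 1 ≤ l ∧ l < 8 := by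
  have h := rel_conj_aux i hi j hj hij
  rw [List.any_eq_true] at h
  obtain ⟨p, hp, h⟩ := h
  rw [Bool.and_eq_true, Bool.and_eq_true, beq_iff_eq, beq_iff_eq, List.all_eq_true] at h
  refine ⟨p, hp, h.1, h.2.1, fun l hl => ?_⟩
  have h2 := h.2.2 l hl
  rw [Bool.and_eq_true, Nat.ble_eq, Nat.blt_eq] at h2
  exact h2

theorem rel_conj'_aux : ∀ j < 7, (rels.any fun p => p.1 == [7, j] && (p.2 == p.2.dropLast ++ [7] &&
    p.2.dropLast.all fun l => Nat.blt l 7)) = true := by decide +kernel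

theorem rel_conj' (j : ℕ) (hj : j < 7) :
    ∃ p ∈ rels, p.1 = [7, j] ∧ p.2 = p.2.dropLast ++ [7] ∧ ∀ l ∈ p.2.dropLast, l < 7 := by
  have h := rel_conj'_aux j hj
  rw [List.any_eq_true] at h
  obtain ⟨p, hp, h⟩ := h
  rw [Bool.and_eq_true, Bool.and_eq_true, beq_iff_eq, beq_iff_eq, List.all_eq_true] at h
  refine ⟨p, hp, h.1, h.2.1, fun l hl => ?_⟩
  have h2 := h.2.2 l hl
  rw [Nat.blt_eq] at h2
  exact h2

theorem rel_ord : ∀ i < 8, (List.replicate (if i % 2 = 0 then 2 else 4) i, []) ∈ rels := by decide +kernel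

theorem rel_n1 : ∀ j < 8, 1 ≤ j → ([8, j], [8 - j, 8]) ∈ rels := by decide +kernel

theorem rel_n2 : ∀ j < 7, ([9, j], [6 - j, 9]) ∈ rels := by decide +kernel

/-- order bound of the letters -/
def od (i : ℕ) : ℕ := if i % 2 = 0 then 2 else 4

theorem od_pos (i : ℕ) : 0 < od i := by unfold od; split_ifs <;> norm_num

variable {y : ℕ → Γ} (hy : Sat y)

include hy

theorem pow_od {i : ℕ} (hi : i < 8) : y i ^ od i = 1 := by
  have h := hy _ (rel_ord i hi)
  simpa [od] using h

theorem conj_V {i : ℕ} (hi : i < 8) : ∀ k ∈ V y (i + 1), y i * k * (y i)⁻¹ ∈ V y (i + 1) := by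
  apply conj_closure
  rintro _ ⟨j, ⟨hj1, hj2⟩, rfl⟩
  obtain ⟨p, hp, h1, h2, h3⟩ := rel_conj i hi j hj2 (by omega)
  have h4 := hy p hp
  rw [h1, h2] at h4
  simp only [List.map_cons, List.map_nil, List.map_append, List.prod_append, List.prod_cons, List.prod_nil,
    mul_one] at h4
  rw [h4, mul_inv_cancel_right]
  exact list_prod_mem y _ (fun l hl => mem_V y (h3 l hl).1 (h3 l hl).2)

theorem conj_V' : ∀ k ∈ V' y, y 7 * k * (y 7)⁻¹ ∈ V' y := by
  apply conj_closure
  rintro _ ⟨j, hj, rfl⟩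
  obtain ⟨p, hp, h1, h2, h3⟩ := rel_conj' j hj
  have h4 := hy p hp
  rw [h1, h2] at h4
  simp only [List.map_cons, List.map_nil, List.map_append, List.prod_append, List.prod_cons, List.prod_nil,
    mul_one] at h4
  rw [h4, mul_inv_cancel_right]
  exact list_prod_mem y _ (fun l hl => mem_V' y (h3 l hl))

theorem V_norm {i : ℕ} (hi : i < 8) : ∀ x ∈ Subgroup.zpowers (y i), ∀ k ∈ V y (i + 1), x * k * x⁻¹ ∈ V y (i + 1) :=
  conj_zpowers (od_pos i) (pow_od hy hi) (conj_V hy hi)

theorem V'_norm : ∀ x ∈ Subgroup.zpowers (y 7), ∀ k ∈ V' y, x * k * x⁻¹ ∈ V' y :=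
  conj_zpowers (od_pos 7) (pow_od hy (by norm_num)) (conj_V' hy)

theorem V_card : ∀ m ≤ 8, ((V y (8 - m) : Subgroup Γ) : Set Γ).Finite ∧
    ((V y (8 - m) : Subgroup Γ) : Set Γ).ncard ≤ ∏ j ∈ Finset.range m, od (7 - j) := by
  intro m
  induction m with
  | zero =>
    intro _
    rw [V_eight]
    simp
  | succ m ih =>
    intro hm
    have hk : 8 - (m + 1) < 8 := by omega
    have h1 := ih (by omega)
    have h2 : 8 - (m + 1) + 1 = 8 - m := by omega
    have h3 := V_succ y hk
    rw [h3]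
    have h4 := card_sup_le (V_norm hy hk) (zpowers_card (od_pos _) (pow_od hy hk))
      (b := ∏ j ∈ Finset.range m, od (7 - j)) (by rw [h2]; exact h1)
    refine ⟨h4.1, h4.2.trans ?_⟩
    rw [Finset.prod_range_succ, mul_comm]
    have h5 : 8 - (m + 1) = 7 - m := by omega
    rw [h5]

theorem U_card : ((V y 0 : Subgroup Γ) : Set Γ).Finite ∧ ((V y 0 : Subgroup Γ) : Set Γ).ncard ≤ 4096 := by
  have h := V_card hy 8 le_rfl
  have h2 : ∏ j ∈ Finset.range 8, od (7 - j) = 4096 := by decide +kernel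
  rw [h2] at h
  exact h

theorem n1n1 : y 8 * y 8 = 1 := by
  have h := hy ([8, 8], []) (by decide +kernel)
  simpa using h

theorem n2n2 : y 9 * y 9 = 1 := by
  have h := hy ([9, 9], []) (by decide +kernel)
  simpa using h

theorem n1_conj {j : ℕ} (h1 : 1 ≤ j) (h2 : j < 8) : y 8 * y j * y 8 = y (8 - j) := by
  have h := hy _ (rel_n1 j h2 h1)
  simp only [List.map_cons, List.map_nil, List.prod_cons, List.prod_nil, mul_one] at h
  rw [h, mul_assoc, n1n1 hy, mul_one]

theorem n2_conj {j : ℕ} (h2 : j < 7) : y 9 * y j * y 9 = y (6 - j) := by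
  have h := hy _ (rel_n2 j h2)
  simp only [List.map_cons, List.map_nil, List.prod_cons, List.prod_nil, mul_one] at h
  rw [h, mul_assoc, n2n2 hy, mul_one]

omit hy in
/-- the two reflections -/
def nn (y : ℕ → Γ) : Bool → Γ := fun s => y (if s then 9 else 8)

omit hy in
/-- recursive condition for `w⁻¹ (y j) w` to be a positive letter -/
def ok : Bool → ℕ → ℕ → Bool
  | _, 0, j => decide (j < 8)
  | false, k + 1, j => decide (1 ≤ j) && decide (j < 8) && ok true k (8 - j)
  | true, k + 1, j => decide (j < 7) && ok false k (6 - j)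

theorem nninv (s : Bool) : (nn y s)⁻¹ = nn y s := by
  apply inv_eq_of_mul_eq_one_left
  cases s
  · exact n1n1 hy
  · exact n2n2 hy

theorem w_conj (k : ℕ) : ∀ (s : Bool) (j : ℕ), ok s k j = true → (w (nn y) s k)⁻¹ * y j * w (nn y) s k ∈ V y 0 := by
  induction k with
  | zero =>
    intro s j h
    have h2 : j < 8 := by
      have : ok s 0 j = decide (j < 8) := by cases s <;> rfl
      rw [this] at h
      exact of_decide_eq_true h
    rw [w_zero, inv_one, one_mul, mul_one]
    exact mem_V y (Nat.zero_le _) h2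
  | succ k ih =>
    intro s j h
    rw [w_succ]
    have h3 : (nn y s * w (nn y) (!s) k)⁻¹ * y j * (nn y s * w (nn y) (!s) k) =
        (w (nn y) (!s) k)⁻¹ * (nn y s * y j * nn y s) * w (nn y) (!s) k := by
      rw [mul_inv_rev, nninv hy]; group
    rw [h3]
    cases s
    · have h4 : ok false (k + 1) j = (decide (1 ≤ j) && decide (j < 8) && ok true k (8 - j)) := rfl
      rw [h4, Bool.and_eq_true, Bool.and_eq_true, decide_eq_true_iff, decide_eq_true_iff] at h
      have h5 : nn y false * y j * nn y false = y (8 - j) := n1_conj hy h.1.1 h.1.2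
      rw [h5]
      exact ih true _ h.2
    · have h4 : ok true (k + 1) j = (decide (j < 7) && ok false k (6 - j)) := rfl
      rw [h4, Bool.and_eq_true, decide_eq_true_iff] at h
      have h5 : nn y true * y j * nn y true = y (6 - j) := n2_conj hy h.1
      rw [h5]
      exact ih false _ h.2

omit hy in
theorem ok_all : ∀ k < 8, ok true k 0 = true ∧ ok false k 7 = true := by decide +kernel

omit hy in
theorem conj_mem_of_zpowers {U : Subgroup Γ} {c g : Γ} (h : c⁻¹ * g * c ∈ U) :
    ∀ x ∈ Subgroup.zpowers g, c⁻¹ * x * c ∈ U := by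
  rintro _ ⟨n, rfl⟩
  have : c⁻¹ * g ^ n * c = (c⁻¹ * g * c) ^ n := by
    have h2 := conj_zpow (i := n) (a := c⁻¹) (b := g)
    rw [inv_inv] at h2
    exact h2.symm
  simp only
  rw [this]
  exact U.zpow_mem h n

omit hy in
theorem mem_zpowers_cases {g : Γ} {m : ℕ} (hm : 0 < m) (hg : g ^ m = 1) {x : Γ} (hx : x ∈ Subgroup.zpowers g) :
    ∃ k < m, x = g ^ k := by
  have hfin : IsOfFinOrder g := isOfFinOrder_iff_pow_eq_one.mpr ⟨m, hm, hg⟩
  rw [← hfin.mem_powers_iff_mem_zpowers] at hx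
  obtain ⟨n, rfl⟩ := hx
  refine ⟨n % m, Nat.mod_lt _ hm, ?_⟩
  simp only
  conv_lhs => rw [← Nat.div_add_mod n m]
  rw [pow_add, pow_mul, hg, one_pow, one_mul]

/-- rank 2 data of a group with letters satisfying the relations -/
def rd : RD Γ where
  n := nn y
  X := fun s => Subgroup.zpowers (y (if s then 7 else 0))
  K := fun s => if s then V' y else V y 1
  U := V y 0
  nn := by
    intro s
    cases s
    · exact n1n1 hy
    · exact n2n2 hy
  XU := by
    intro s
    rw [Subgroup.zpowers_le]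
    cases s
    · exact mem_V y le_rfl (by norm_num)
    · exact mem_V y (by norm_num) (by norm_num)
  KU := by
    intro s
    cases s
    · exact V_mono y (by norm_num)
    · exact V'_le y
  fac := by
    intro s u hu
    cases s
    · rw [V_succ y (by norm_num)] at hu
      exact mem_sup_fac (V_norm hy (by norm_num)) u hu
    · rw [V_zero'] at hu
      exact mem_sup_fac (V'_norm hy) u hu
  nK := by
    intro s k hk
    cases s
    · have h := conj_closure (S := y '' {i | 1 ≤ i ∧ i < 8}) (K := V y 1) (g := y 8) (by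
        rintro _ ⟨j, ⟨h1, h2⟩, rfl⟩
        have h3 : (y 8)⁻¹ = y 8 := nninv hy false
        rw [h3, n1_conj hy h1 h2]
        exact mem_V y (by omega) (by omega)) k hk
      have h3 : (y 8)⁻¹ = y 8 := nninv hy false
      rw [h3] at h
      exact h
    · have h := conj_closure (S := y '' {i | i < 7}) (K := V' y) (g := y 9) (by
        rintro _ ⟨j, h1, rfl⟩
        have h3 : (y 9)⁻¹ = y 9 := nninv hy true
        have h1' : j < 7 := h1
        rw [h3, n2_conj hy h1]
        exact mem_V' y (by omega)) k hk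
      have h3 : (y 9)⁻¹ = y 9 := nninv hy true
      rw [h3] at h
      exact h
  rk1 := by
    intro s x hx hx1
    cases s
    · obtain ⟨k, hk, rfl⟩ := mem_zpowers_cases (m := 2) (by norm_num) (pow_od hy (i := 0) (by norm_num)) hx
      have hk1 : k = 1 := by
        rcases k with _ | _ | k
        · exact absurd (pow_zero _) hx1
        · rfl
        · omega
      subst hk1
      have h := hy ([8, 0, 8], [0, 8, 0]) (by decide +kernel)
      simp only [List.map_cons, List.map_nil, List.prod_cons, List.prod_nil, mul_one, ← mul_assoc] at h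
      exact ⟨y 0, Subgroup.mem_zpowers _, y 0, Subgroup.mem_zpowers _, by rw [pow_one]; exact h⟩
    · obtain ⟨k, hk, rfl⟩ := mem_zpowers_cases (m := 4) (by norm_num) (pow_od hy (i := 7) (by norm_num)) hx
      have hz : ∀ n : ℕ, y 7 ^ n ∈ Subgroup.zpowers (y 7) := fun n => Subgroup.npow_mem_zpowers _ _
      have e1 := hy ([9, 7, 9], [7, 9, 7, 7]) (by decide +kernel)
      have e2 := hy ([9, 7, 7, 9], [7, 7, 7, 9, 7]) (by decide +kernel)
      have e3 := hy ([9, 7, 7, 7, 9], [7, 7, 9, 7, 7, 7]) (by decide +kernel)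
      simp only [List.map_cons, List.map_nil, List.prod_cons, List.prod_nil, mul_one] at e1 e2 e3
      rcases k with _ | _ | _ | _ | k
      · exact absurd (pow_zero _) hx1
      · refine ⟨_, hz 1, _, hz 2, ?_⟩
        show y 9 * y 7 ^ (0 + 1) * y 9 = y 7 ^ 1 * y 9 * y 7 ^ 2
        simp only [pow_succ, pow_zero, one_mul, mul_assoc] at *
        exact e1
      · refine ⟨_, hz 3, _, hz 1, ?_⟩
        show y 9 * y 7 ^ (0 + 1 + 1) * y 9 = y 7 ^ 3 * y 9 * y 7 ^ 1
        simp only [pow_succ, pow_zero, one_mul, mul_assoc] at *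
        exact e2
      · refine ⟨_, hz 2, _, hz 3, ?_⟩
        show y 9 * y 7 ^ (0 + 1 + 1 + 1) * y 9 = y 7 ^ 2 * y 9 * y 7 ^ 3
        simp only [pow_succ, pow_zero, one_mul, mul_assoc] at *
        exact e3
      · omega
  wX := by
    intro s k hk
    cases s
    · exact conj_mem_of_zpowers (w_conj hy k true 0 (ok_all k hk).1)
    · exact conj_mem_of_zpowers (w_conj hy k false 7 (ok_all k hk).2)
  w8 := by
    have h := hy ([8, 9, 8, 9, 8, 9, 8, 9], [9, 8, 9, 8, 9, 8, 9, 8]) (by decide +kernel)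
    simp only [List.map_cons, List.map_nil, List.prod_cons, List.prod_nil, mul_one] at h
    simp only [w_succ, w_zero, Bool.not_false, Bool.not_true, mul_one]
    exact h

theorem rd_G : (rd hy).G = Subgroup.closure (y '' {i | i < 10}) := by
  apply le_antisymm
  · unfold RD.G
    rw [Subgroup.closure_le]
    rintro x (hx | ⟨s, rfl⟩)
    · have : (V y 0) ≤ Subgroup.closure (y '' {i | i < 10}) :=
        Subgroup.closure_mono (Set.image_mono (fun i hi => by
          have : i < 8 := hi.2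
          show i < 10
          omega))
      exact this hx
    · cases s
      · exact Subgroup.subset_closure ⟨8, by show 8 < 10; norm_num, rfl⟩
      · exact Subgroup.subset_closure ⟨9, by show 9 < 10; norm_num, rfl⟩
  · rw [Subgroup.closure_le]
    rintro _ ⟨i, hi, rfl⟩
    have hi' : i < 10 := hi
    by_cases h8 : i < 8
    · exact Subgroup.subset_closure (Or.inl (mem_V y (Nat.zero_le _) h8))
    · by_cases h : i = 8
      · subst h; exact Subgroup.subset_closure (Or.inr ⟨false, rfl⟩)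
      · have : i = 9 := by omega
        subst this; exact Subgroup.subset_closure (Or.inr ⟨true, rfl⟩)

/-- The group generated by letters satisfying the relations has order at most 35942400. -/
theorem card_le : Finite (Subgroup.closure (y '' {i | i < 10})) ∧
    Nat.card (Subgroup.closure (y '' {i | i < 10})) ≤ 35942400 := by
  rw [← rd_G hy]
  apply RD.G_card
  · intro s
    cases s
    · exact zpowers_card (by norm_num) (pow_od hy (i := 0) (by norm_num))
    · exact zpowers_card (by norm_num) (pow_od hy (i := 7) (by norm_num))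
  · exact U_card hy

end Cfsg.Agent.ChevalleyStructure.Tits.Sat
end

-- part: ChevalleyStructure/Tits/Final
section
/-! The abstract part of the theorem on the Tits group. -/

set_option autoImplicit false

namespace Cfsg.Agent.ChevalleyStructure.Tits.Final

open Cfsg.Agent.ChevalleyStructure.Tits.Data Cfsg.Agent.ChevalleyStructure.Tits.Rank2
  Cfsg.Agent.ChevalleyStructure.Tits.Sat
open scoped commutatorElement

/-! ### index two subgroups and simplicity -/

section IndexTwo

variable {Γ : Type*} [Group Γ]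

theorem normal_map_subtype {T : Subgroup Γ} [T.Normal] (hT : T.index = 2) {g : Γ} (hg : g ∉ T)
    (R : Subgroup T) (hR : R.Normal) (hα : ∀ r ∈ R, MulAut.conjNormal g r ∈ R) :
    (R.map T.subtype).Normal := by
  constructor
  rintro _ ⟨r, hr, rfl⟩ x
  by_cases hx : x ∈ T
  · refine ⟨⟨x, hx⟩ * r * ⟨x, hx⟩⁻¹, hR.conj_mem r hr ⟨x, hx⟩, rfl⟩
  · have h1 : g⁻¹ * x ∈ T := by
      rw [Subgroup.mul_mem_iff_of_index_two hT]
      constructor
      · intro h; exact absurd ((T.inv_mem_iff).mp h) hg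
      · intro h; exact absurd h hx
    have h2 := hα _ (hR.conj_mem r hr ⟨g⁻¹ * x, h1⟩)
    refine ⟨_, h2, ?_⟩
    rw [Subgroup.coe_subtype, MulAut.conjNormal_apply]
    simp only [Subgroup.coe_mul, InvMemClass.coe_inv]
    group

theorem isSimple_of_index_two [Finite Γ] {T : Subgroup Γ} [hTn : T.Normal] (hT : T.index = 2)
    (hmin : ∀ N : Subgroup Γ, N.Normal → N ≠ ⊥ → T ≤ N) (hsq : ∀ m : ℕ, Nat.card T ≠ m * m) :
    IsSimpleGroup T := by
  have hnt : Nontrivial T := by
    by_contra h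
    rw [not_nontrivial_iff_subsingleton] at h
    have : Nat.card T = 1 := Nat.card_eq_one_iff_unique.mpr ⟨h, ⟨1⟩⟩
    exact hsq 1 (by rw [this])
  have hex : ∃ g : Γ, g ∉ T := by
    by_contra h
    push Not at h
    have : T = ⊤ := (Subgroup.eq_top_iff' T).mpr h
    rw [this, Subgroup.index_top] at hT
    omega
  obtain ⟨g, hg⟩ := hex
  have hgg : g * g ∈ T := by
    rw [Subgroup.mul_mem_iff_of_index_two hT]
  refine { exists_pair_ne := hnt.exists_pair_ne, eq_bot_or_eq_top_of_normal := ?_ }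
  intro S hS
  by_contra hcon
  push Not at hcon
  obtain ⟨hSb, hSt⟩ := hcon
  set α : MulAut T := MulAut.conjNormal g with hαdef
  set S' : Subgroup T := S.map α.toMonoidHom with hS'def
  have hS' : S'.Normal := hS.map _ α.surjective
  have hαS : ∀ r ∈ S, α r ∈ S' := fun r hr => ⟨r, hr, rfl⟩
  have hαS' : ∀ r ∈ S', α r ∈ S := by
    rintro _ ⟨s, hs, rfl⟩
    have h1 : α (α s) = ⟨g * g, hgg⟩ * s * ⟨g * g, hgg⟩⁻¹ := by
      apply Subtype.ext
      simp only [hαdef, MulAut.conjNormal_apply, Subgroup.coe_mul, InvMemClass.coe_inv]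
      group
    have h2 : α.toMonoidHom s = α s := rfl
    rw [h2, h1]
    exact hS.conj_mem s hs _
  -- the intersection
  have hI : S ⊓ S' = ⊥ := by
    by_contra hne
    have hn : ((S ⊓ S').map T.subtype).Normal :=
      normal_map_subtype hT hg (S ⊓ S') (Subgroup.normal_inf_normal S S')
        (fun r hr => ⟨hαS' r hr.2, hαS r hr.1⟩)
    have hne2 : (S ⊓ S').map T.subtype ≠ ⊥ := by
      intro h
      rw [Subgroup.map_eq_bot_iff_of_injective _ T.subtype_injective] at h
      exact hne h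
    have h3 := hmin _ hn hne2
    apply hSt
    rw [Subgroup.eq_top_iff']
    intro t
    obtain ⟨r, hr, hrt⟩ := h3 t.2
    have : r = t := Subtype.ext hrt
    rw [← this]; exact hr.1
  -- the join
  have hJ : S ⊔ S' = ⊤ := by
    have hsupn : (S ⊔ S').Normal := Subgroup.sup_normal S S'
    have hmapS : S.map α.toMonoidHom ≤ S' := by
      rintro _ ⟨r, hr, rfl⟩; exact hαS r hr
    have hmapS' : S'.map α.toMonoidHom ≤ S := by
      rintro _ ⟨r, hr, rfl⟩; exact hαS' r hr
    have hn : ((S ⊔ S').map T.subtype).Normal := by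
      apply normal_map_subtype hT hg (S ⊔ S') hsupn
      intro r hr
      have h4 : (S ⊔ S').map α.toMonoidHom ≤ S ⊔ S' := by
        rw [Subgroup.map_sup]
        exact sup_le (hmapS.trans le_sup_right) (hmapS'.trans le_sup_left)
      exact h4 ⟨r, hr, rfl⟩
    have hne2 : (S ⊔ S').map T.subtype ≠ ⊥ := by
      intro h
      rw [Subgroup.map_eq_bot_iff_of_injective _ T.subtype_injective] at h
      exact hSb (le_bot_iff.mp (h ▸ le_sup_left))
    have h3 := hmin _ hn hne2
    rw [Subgroup.eq_top_iff']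
    intro t
    obtain ⟨r, hr, hrt⟩ := h3 t.2
    have : r = t := Subtype.ext hrt
    rw [← this]; exact hr
  have hc : Subgroup.IsComplement' S S' := by
    apply Subgroup.isComplement'_of_disjoint_and_mul_eq_univ (disjoint_iff.mpr hI)
    rw [← Subgroup.mul_normal S S', hJ, Subgroup.coe_top]
  have hcard := hc.card_mul_card
  have hcard2 : Nat.card S' = Nat.card S := Nat.card_congr (S.equivMapOfInjective α.toMonoidHom α.injective).symm.toEquiv
  rw [hcard2] at hcard
  exact hsq _ hcard.symm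

end IndexTwo

/-! ### product trick -/

theorem prod_map_prod {A B : Type*} [Group A] [Group B] (a : ℕ → A) (b : ℕ → B) (l : List ℕ) :
    (l.map fun i => (a i, b i)).prod = ((l.map a).prod, (l.map b).prod) := by
  induction l with
  | nil => rfl
  | cons x l ih => simp only [List.map_cons, List.prod_cons, ih, Prod.mk_mul_mk]

theorem Sat_prod {A B : Type*} [Group A] [Group B] {a : ℕ → A} {b : ℕ → B} (ha : Sat a) (hb : Sat b) :
    Sat (fun i => (a i, b i)) := by
  intro p hp
  rw [prod_map_prod, prod_map_prod, ha p hp, hb p hp]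

/-- the sign letters -/
def sg (i : ℕ) : ℤˣ := if i < 8 ∧ i % 2 = 1 then -1 else 1

theorem Sat_sg : Sat sg := by
  unfold Sat
  decide +kernel

section Main

variable {Γ : Type*} [Group Γ] {y : ℕ → Γ} (hy : Sat y)

include hy

theorem gen4 (S : Subgroup Γ) (h0 : y 0 ∈ S) (h7 : y 7 ∈ S) (h8 : y 8 ∈ S) (h9 : y 9 ∈ S) :
    Subgroup.closure (y '' {i | i < 10}) ≤ S := by
  have h1 : y 1 ∈ S := by
    have := n1_conj hy (j := 7) (by norm_num) (by norm_num)
    rw [show 8 - 7 = 1 from rfl] at this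
    rw [← this]; exact S.mul_mem (S.mul_mem h8 h7) h8
  have h6 : y 6 ∈ S := by
    have := n2_conj hy (j := 0) (by norm_num)
    rw [show 6 - 0 = 6 from rfl] at this
    rw [← this]; exact S.mul_mem (S.mul_mem h9 h0) h9
  have h2 : y 2 ∈ S := by
    have := n1_conj hy (j := 6) (by norm_num) (by norm_num)
    rw [show 8 - 6 = 2 from rfl] at this
    rw [← this]; exact S.mul_mem (S.mul_mem h8 h6) h8
  have h5 : y 5 ∈ S := by
    have := n2_conj hy (j := 1) (by norm_num)
    rw [show 6 - 1 = 5 from rfl] at this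
    rw [← this]; exact S.mul_mem (S.mul_mem h9 h1) h9
  have h3 : y 3 ∈ S := by
    have := n1_conj hy (j := 5) (by norm_num) (by norm_num)
    rw [show 8 - 5 = 3 from rfl] at this
    rw [← this]; exact S.mul_mem (S.mul_mem h8 h5) h8
  have h4 : y 4 ∈ S := by
    have := n2_conj hy (j := 2) (by norm_num)
    rw [show 6 - 2 = 4 from rfl] at this
    rw [← this]; exact S.mul_mem (S.mul_mem h9 h2) h9
  rw [Subgroup.closure_le]
  rintro _ ⟨i, hi, rfl⟩
  have hi' : i < 10 := hi
  interval_cases i <;> assumption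

/-- images of the letters in an abelian quotient -/
theorem comm_image {A : Type*} [CommGroup A] (φ : Γ →* A) :
    φ (y 0) = 1 ∧ φ (y 8) = 1 ∧ φ (y 9) = 1 ∧ φ (y 7) * φ (y 7) = 1 := by
  have a2 := congrArg φ (pow_od hy (i := 0) (by norm_num))
  have n1 := congrArg φ (n1n1 hy)
  have n2 := congrArg φ (n2n2 hy)
  have e1 := congrArg φ (hy ([8, 0, 8], [0, 8, 0]) (by decide +kernel))
  have e2 := congrArg φ (hy ([9, 7, 9], [7, 9, 7, 7]) (by decide +kernel))
  have e3 := congrArg φ (hy ([0, 3], [1, 1, 3, 0]) (by decide +kernel))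
  have e4 := congrArg φ (hy ([1, 3], [2, 3, 1]) (by decide +kernel))
  have c1 := congrArg φ (n1_conj hy (j := 7) (by norm_num) (by norm_num))
  have c6 := congrArg φ (n2_conj hy (j := 0) (by norm_num))
  have c2 := congrArg φ (n1_conj hy (j := 6) (by norm_num) (by norm_num))
  have c5 := congrArg φ (n2_conj hy (j := 1) (by norm_num))
  have c3 := congrArg φ (n1_conj hy (j := 5) (by norm_num) (by norm_num))
  simp only [List.map_cons, List.map_nil, List.prod_cons, List.prod_nil, mul_one, map_mul, map_one, map_pow,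
    Nat.reduceSub] at a2 n1 n2 e1 e2 e3 e4 c1 c6 c2 c5 c3
  have hod : od 0 = 2 := rfl
  rw [hod, pow_two] at a2
  generalize φ (y 0) = a at *
  generalize φ (y 7) = c at *
  generalize φ (y 8) = m at *
  generalize φ (y 9) = n at *
  generalize φ (y 1) = r1 at *
  generalize φ (y 2) = r2 at *
  generalize φ (y 3) = r3 at *
  generalize φ (y 5) = r5 at *
  generalize φ (y 6) = r6 at *
  -- conjugates are equal to the original
  have hm : ∀ x : A, m * x * m = x := fun x => by
    rw [mul_comm m x, mul_assoc, n1, mul_one]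
  have hn : ∀ x : A, n * x * n = x := fun x => by
    rw [mul_comm n x, mul_assoc, n2, mul_one]
  rw [hm] at c1 c2 c3
  rw [hn] at c6 c5
  subst c1 c6
  subst c2 c5
  subst c3
  -- c * c = 1
  have hcc : c * c = 1 := by
    have h : a * c = (c * c) * (a * c) := by
      conv_lhs => rw [e3]
      rw [mul_comm a c]
      simp only [mul_assoc]
    have h2 : 1 * (a * c) = (c * c) * (a * c) := by rw [one_mul]; exact h
    exact (mul_right_cancel h2).symm
  have ha : a = 1 := by
    have h : c * c = a * (c * c) := e4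
    rw [hcc, mul_one] at h
    exact h.symm
  have hmm : m = 1 := by
    rw [ha] at e1
    simp only [one_mul, mul_one] at e1
    rw [n1] at e1
    exact e1.symm
  have hnn : n = 1 := by
    have h : n * (c * n) = c := by rw [← mul_assoc]; exact hn c
    rw [h, hcc, mul_one] at e2
    -- c = c * n
    have h2 : c * 1 = c * n := by rw [mul_one]; exact e2
    exact (mul_left_cancel h2).symm
  exact ⟨ha, hmm, hnn, hcc⟩

variable (hgen : Subgroup.closure (y '' {i | i < 10}) = ⊤)

include hgen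

theorem index_commutator_le : (commutator Γ).index ∣ 2 := by
  have h := comm_image hy (Abelianization.of (G := Γ))
  obtain ⟨h0, h8, h9, h77⟩ := h
  have hz : (Subgroup.zpowers (Abelianization.of (y 7))).comap (Abelianization.of (G := Γ)) = ⊤ := by
    rw [eq_top_iff, ← hgen]
    apply gen4 hy
    · rw [Subgroup.mem_comap, h0]; exact Subgroup.one_mem _
    · rw [Subgroup.mem_comap]; exact Subgroup.mem_zpowers _
    · rw [Subgroup.mem_comap, h8]; exact Subgroup.one_mem _
    · rw [Subgroup.mem_comap, h9]; exact Subgroup.one_mem _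
  have hz2 : ∀ q : Abelianization Γ, q ∈ Subgroup.zpowers (Abelianization.of (y 7)) := by
    intro q
    obtain ⟨g, rfl⟩ := QuotientGroup.mk_surjective q
    have : g ∈ (Subgroup.zpowers (Abelianization.of (y 7))).comap (Abelianization.of (G := Γ)) := by
      rw [hz]; trivial
    exact this
  have hcard : Nat.card (Abelianization Γ) = orderOf (Abelianization.of (y 7)) :=
    (orderOf_eq_card_of_forall_mem_zpowers hz2).symm
  have h2 : orderOf (Abelianization.of (y 7)) ∣ 2 := by
    apply orderOf_dvd_of_pow_eq_one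
    rw [pow_two]; exact h77
  rw [← hcard] at h2
  exact h2

theorem exists_sign [Finite Γ] (hcard : Nat.card Γ = 35942400) : ∃ χ : Γ →* ℤˣ, χ (y 7) = -1 := by
  set z : ℕ → Γ × ℤˣ := fun i => (y i, sg i) with hz
  have hs : Sat z := Sat_prod hy Sat_sg
  obtain ⟨hfin, hle⟩ := card_le hs
  set D := Subgroup.closure (z '' {i | i < 10}) with hD
  let f : D →* Γ := (MonoidHom.fst Γ ℤˣ).comp D.subtype
  have hsurj : Function.Surjective f := by
    rw [← MonoidHom.range_eq_top, eq_top_iff, ← hgen, Subgroup.closure_le]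
    rintro _ ⟨i, hi, rfl⟩
    exact ⟨⟨z i, Subgroup.subset_closure ⟨i, hi, rfl⟩⟩, rfl⟩
  have hbij : Function.Bijective f := hsurj.bijective_of_nat_card_le (by rw [hcard]; exact hle)
  let e : D ≃* Γ := MulEquiv.ofBijective f hbij
  refine ⟨((MonoidHom.snd Γ ℤˣ).comp D.subtype).comp e.symm.toMonoidHom, ?_⟩
  have h7 : e ⟨z 7, Subgroup.subset_closure ⟨7, by show 7 < 10; norm_num, rfl⟩⟩ = y 7 := rfl
  rw [← h7]
  show ((MonoidHom.snd Γ ℤˣ).comp D.subtype) (e.symm (e _)) = -1
  rw [MulEquiv.symm_apply_apply]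
  rfl

theorem index_commutator [Finite Γ] (hcard : Nat.card Γ = 35942400) : (commutator Γ).index = 2 := by
  obtain ⟨χ, hχ⟩ := exists_sign hy hgen hcard
  have h1 := index_commutator_le hy hgen
  rcases (Nat.dvd_prime Nat.prime_two).mp h1 with h | h
  · exfalso
    rw [Subgroup.index_eq_one] at h
    have h2 : commutator Γ ≤ χ.ker := Abelianization.commutator_subset_ker χ
    rw [h] at h2
    have h3 : y 7 ∈ χ.ker := h2 trivial
    rw [MonoidHom.mem_ker, hχ] at h3
    exact absurd h3 (by decide)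
  · exact h

/-- a normal supplement to a group of order 4096 contains the derived subgroup -/
theorem commutator_le_of_sup (N : Subgroup Γ) [hN : N.Normal] (hU : Nat.card (V y 0) = 4096)
    (hsup : N ⊔ V y 0 = ⊤) : commutator Γ ≤ N := by
  have hpow : ∀ g : Γ, g ^ 4096 ∈ N := by
    intro g
    have hg : g ∈ N ⊔ V y 0 := by rw [hsup]; trivial
    obtain ⟨m, hm, u, hu, rfl⟩ := Subgroup.mem_sup_of_normal_left.mp hg
    have hu2 : u ^ 4096 = 1 := by
      have h1 : (⟨u, hu⟩ : V y 0) ^ Nat.card (V y 0) = 1 := pow_card_eq_one'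
      rw [hU] at h1
      exact congrArg Subtype.val h1
    rw [← QuotientGroup.eq_one_iff, QuotientGroup.mk_pow, QuotientGroup.mk_mul,
      (QuotientGroup.eq_one_iff m).mpr hm, one_mul, ← QuotientGroup.mk_pow, hu2, QuotientGroup.mk_one]
  have hodd : ∀ (g : Γ) (m : ℕ), g ^ m = 1 → 4096 % m = 1 → g ∈ N := by
    intro g m h1 h2
    have h3 := hpow g
    have h4 : 4096 = m * (4096 / m) + 1 := by
      conv_lhs => rw [← Nat.div_add_mod 4096 m, h2]
    rw [h4, pow_succ, pow_mul, h1, one_pow, one_mul] at h3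
    exact h3
  have t3 : y 8 * y 0 ∈ N := by
    apply hodd _ 3 _ (by norm_num)
    have h := hy ([8, 0, 8, 0, 8, 0], []) (by decide +kernel)
    simp only [List.map_cons, List.map_nil, List.prod_cons, List.prod_nil, mul_one] at h
    rw [← h, pow_succ, pow_succ, pow_succ, pow_zero, one_mul]
    simp only [mul_assoc]
  have t5 : y 9 * (y 7 * y 7) ∈ N := by
    apply hodd _ 5 _ (by norm_num)
    have h := hy ([9, 7, 7, 9, 7, 7, 9, 7, 7, 9, 7, 7, 9, 7, 7], []) (by decide +kernel)
    simp only [List.map_cons, List.map_nil, List.prod_cons, List.prod_nil, mul_one] at h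
    rw [← h, pow_succ, pow_succ, pow_succ, pow_succ, pow_succ, pow_zero, one_mul]
    simp only [mul_assoc]
  set π := QuotientGroup.mk' N with hπ
  have p3 : π (y 8) * π (y 0) = 1 := by
    rw [← map_mul]; exact (QuotientGroup.eq_one_iff _).mpr t3
  have p5 : π (y 9) * (π (y 7) * π (y 7)) = 1 := by
    rw [← map_mul, ← map_mul]; exact (QuotientGroup.eq_one_iff _).mpr t5
  have a2 : π (y 0) * π (y 0) = 1 := by
    rw [← map_mul, ← pow_two]
    have := pow_od hy (i := 0) (by norm_num)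
    have hod : od 0 = 2 := rfl
    rw [hod] at this
    rw [this, map_one]
  have h80 : π (y 8) = π (y 0) := by
    have : π (y 8) * π (y 0) = π (y 0) * π (y 0) := by rw [p3, a2]
    exact mul_right_cancel this
  have e1 : π (y 8) * π (y 7) * π (y 8) = π (y 1) := by
    rw [← map_mul, ← map_mul]
    exact congrArg π (n1_conj hy (j := 7) (by norm_num) (by norm_num))
  have e2 : π (y 0) * π (y 1) = π (y 1) * π (y 0) := by
    have h := hy ([0, 1], [1, 0]) (by decide +kernel)
    simp only [List.map_cons, List.map_nil, List.prod_cons, List.prod_nil, mul_one] at h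
    rw [← map_mul, ← map_mul, h]
  have hcomm : π (y 7) * π (y 0) = π (y 0) * π (y 7) := by
    rw [← e1, h80] at e2
    calc π (y 7) * π (y 0) = (π (y 0) * π (y 0)) * π (y 7) * π (y 0) := by rw [a2, one_mul]
      _ = π (y 0) * (π (y 0) * π (y 7) * π (y 0)) := by simp only [mul_assoc]
      _ = π (y 0) * π (y 7) * π (y 0) * π (y 0) := e2
      _ = π (y 0) * π (y 7) * (π (y 0) * π (y 0)) := by simp only [mul_assoc]
      _ = π (y 0) * π (y 7) := by rw [a2, mul_one]
  have h9 : π (y 9) = (π (y 7) * π (y 7))⁻¹ := eq_inv_of_mul_eq_one_left p5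
  -- everything is generated by two commuting elements
  have hZ : ∀ z : Γ ⧸ N, z * π (y 0) = π (y 0) * z → z * π (y 7) = π (y 7) * z → ∀ g : Γ, z * π g = π g * z := by
    intro z hz0 hz7 g
    have hle : Subgroup.closure (y '' {i | i < 10}) ≤ (Subgroup.centralizer {z}).comap π := by
      apply gen4 hy
      · rw [Subgroup.mem_comap, Subgroup.mem_centralizer_singleton_iff]; exact hz0.symm
      · rw [Subgroup.mem_comap, Subgroup.mem_centralizer_singleton_iff]; exact hz7.symm
      · rw [Subgroup.mem_comap, Subgroup.mem_centralizer_singleton_iff, h80]; exact hz0.symm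
      · rw [Subgroup.mem_comap, h9]
        apply Subgroup.inv_mem
        apply Subgroup.mul_mem <;>
        · rw [Subgroup.mem_centralizer_singleton_iff]; exact hz7.symm
    rw [hgen] at hle
    have := hle (Subgroup.mem_top g)
    rw [Subgroup.mem_comap, Subgroup.mem_centralizer_singleton_iff] at this
    exact this.symm
  have hA := hZ (π (y 0)) rfl hcomm.symm
  have hC := hZ (π (y 7)) hcomm rfl
  have hall : ∀ g h : Γ, π g * π h = π h * π g := by
    intro g h
    exact hZ (π g) (hA g).symm (hC g).symm h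
  rw [commutator_def, Subgroup.commutator_le]
  intro g _ h _
  rw [← QuotientGroup.eq_one_iff]
  have h1 : ((⁅g, h⁆ : Γ) : Γ ⧸ N) = π g * π h * (π g)⁻¹ * (π h)⁻¹ := by
    rw [commutatorElement_def]; rfl
  rw [h1, hall g h]
  group

/-- The abstract form of the theorem on the Tits group. -/
theorem main [Finite Γ] (hcard : Nat.card Γ = 35942400) (hU : Nat.card (V y 0) = 4096)
    (hcore : ∀ N : Subgroup Γ, N.Normal → N ≤ V y 0 → N = ⊥) (h0 : y 0 ≠ 1) (h7 : y 7 ≠ 1) :
    (commutator Γ).index = 2 ∧ IsSimpleGroup (commutator Γ) ∧ ¬ IsMulCommutative (commutator Γ) ∧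
      Nat.card (commutator Γ) = 2 ^ 11 * 3 ^ 3 * 5 ^ 2 * 13 := by
  have hidx := index_commutator hy hgen hcard
  have hc : Nat.card (commutator Γ) = 17971200 := by
    have h := (commutator Γ).card_mul_index
    rw [hidx, hcard] at h
    omega
  have hmin : ∀ N : Subgroup Γ, N.Normal → N ≠ ⊥ → commutator Γ ≤ N := by
    intro N hN hne
    have := hN
    apply commutator_le_of_sup hy hgen N hU
    refine (rd hy).normal_sup_U ?_ ?_ N ?_
    · rw [rd_G hy, hgen]
    · intro s
      cases s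
      · exact ⟨y 0, Subgroup.mem_zpowers _, h0⟩
      · exact ⟨y 7, Subgroup.mem_zpowers _, h7⟩
    · intro hle
      exact hne (hcore N hN hle)
  have hsimple : IsSimpleGroup (commutator Γ) := by
    apply isSimple_of_index_two hidx hmin
    intro m hm
    rw [hc] at hm
    have h1 : m < 4240 := by
      by_contra h
      push Not at h
      have := Nat.mul_le_mul h h
      omega
    have h2 : 4239 < m := by
      by_contra h
      push Not at h
      have := Nat.mul_le_mul h h
      omega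
    omega
  refine ⟨hidx, hsimple, ?_, by rw [hc]; norm_num⟩
  intro hcomm
  let _ : CommGroup (commutator Γ) :=
    { (inferInstance : Group (commutator Γ)) with mul_comm := isMulCommutative_iff.mp hcomm }
  have hp := IsSimpleGroup.prime_card (α := commutator Γ)
  rw [hc] at hp
  exact absurd hp (by norm_num)

end Main

end Cfsg.Agent.ChevalleyStructure.Tits.Final
end

-- part: ChevalleyStructure/Tits/Mat
section
/-! The matrix group generated by the letters: order 35942400. -/

set_option autoImplicit false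

namespace Cfsg.Agent.ChevalleyStructure.Tits.Mat

open Cfsg.Agent.ChevalleyStructure.Tits.Pack Cfsg.Agent.ChevalleyStructure.Tits.Data
  Cfsg.Agent.ChevalleyStructure.Tits.Cert Cfsg.Agent.ChevalleyStructure.Tits.Rank2
  Cfsg.Agent.ChevalleyStructure.Tits.Sat Cfsg.Agent.ChevalleyStructure.Tits.Final

open scoped MatrixGroups

/-- coordinates -/
abbrev I52 : Type := Fin 4 ⊕ Fin 48

/-- matrix of a letter -/
def LM (i : ℕ) : Matrix I52 I52 (ZMod 2) := toMat (LP i)

theorem toMat_evalV (w : List ℕ) (v : ℕ) : toMat (evalV w v) = (w.map LM).prod * toMat v := by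
  induction w with
  | nil => simp [evalV]
  | cons a w ih =>
    have h : evalV (a :: w) v = mulP (LP a) (evalV w v) := rfl
    rw [h, toMat_mulP, ih, List.map_cons, List.prod_cons, LM, Matrix.mul_assoc]

theorem toMat_evalW (w : List ℕ) : toMat (evalW w) = (w.map LM).prod := by
  have h : evalW w = evalV w oneP := rfl
  rw [h, toMat_evalV, toMat_oneP, Matrix.mul_one]

theorem eq_of_chk {p : List ℕ × List ℕ} (h : chk p = true) : (p.1.map LM).prod = (p.2.map LM).prod := by
  rw [← toMat_evalW, ← toMat_evalW]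
  rw [Nat.eq_of_beq_eq_true h]

theorem LM_pow4 (i : ℕ) (hi : i < 12) : LM i ^ 4 = 1 := by
  have h := pow4_ok
  rw [List.all_eq_true] at h
  have h2 := eq_of_chk (h i (List.mem_range.mpr hi))
  simp only [List.map_cons, List.map_nil, List.prod_cons, List.prod_nil, mul_one] at h2
  rw [pow_succ, pow_succ, pow_succ, pow_one]
  simp only [mul_assoc] at h2 ⊢
  exact h2

/-- the letters as units -/
noncomputable def yG (i : ℕ) : GL I52 (ZMod 2) :=
  if h : i < 12 then Units.ofPowEqOne (LM i) 4 (LM_pow4 i h) (by norm_num) else 1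

theorem coe_yG {i : ℕ} (h : i < 12) : ((yG i : GL I52 (ZMod 2)) : Matrix I52 I52 (ZMod 2)) = LM i := by
  unfold yG
  rw [dif_pos h]
  rfl

theorem coe_word (w : List ℕ) (h : ∀ i ∈ w, i < 12) :
    (((w.map yG).prod : GL I52 (ZMod 2)) : Matrix I52 I52 (ZMod 2)) = (w.map LM).prod := by
  induction w with
  | nil => simp
  | cons a w ih =>
    rw [List.map_cons, List.prod_cons, List.map_cons, List.prod_cons, Units.val_mul,
      ih (fun i hi => h i (List.mem_cons_of_mem a hi)), coe_yG (h a List.mem_cons_self)]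

theorem rel_of_chk {p : List ℕ × List ℕ} (h : chk p = true) (h1 : ∀ i ∈ p.1, i < 12) (h2 : ∀ i ∈ p.2, i < 12) :
    (p.1.map yG).prod = (p.2.map yG).prod := by
  apply Units.ext
  rw [coe_word _ h1, coe_word _ h2]
  exact eq_of_chk h

theorem Sat_yG : Sat yG := by
  intro p hp
  have h1 := rels_ok
  rw [List.all_eq_true] at h1
  have h2 := lt_ok
  rw [List.all_eq_true] at h2
  have h3 := h2 p (by simp [hp])
  rw [Bool.and_eq_true, List.all_eq_true, List.all_eq_true] at h3
  refine rel_of_chk (h1 p hp) (fun i hi => ?_) (fun i hi => ?_)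
  · have := h3.1 i hi; rwa [Nat.blt_eq] at this
  · have := h3.2 i hi; rwa [Nat.blt_eq] at this

/-- relations from the second list -/
theorem ext_rel {p : List ℕ × List ℕ} (hp : p ∈ ext.take 6 ++ ext.drop 14) :
    (p.1.map yG).prod = (p.2.map yG).prod := by
  have h1 := ext_ok
  rw [List.all_eq_true] at h1
  have hp2 : p ∈ ext := by
    rw [List.mem_append] at hp
    rcases hp with hp | hp
    · exact List.mem_of_mem_take hp
    · exact List.mem_of_mem_drop hp
  have h2 := lt_ok
  rw [List.all_eq_true] at h2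
  have h3 := h2 p (by rw [List.append_assoc]; exact List.mem_append_right _ hp)
  rw [Bool.and_eq_true, List.all_eq_true, List.all_eq_true] at h3
  refine rel_of_chk (h1 p hp2) (fun i hi => ?_) (fun i hi => ?_)
  · have := h3.1 i hi; rwa [Nat.blt_eq] at this
  · have := h3.2 i hi; rwa [Nat.blt_eq] at this

/-! ### non-membership certificates -/

theorem toMat_inj_vec {a b : ℕ} (ha : a < 2 ^ 52) (hb : b < 2 ^ 52) (h : toMat a = toMat b) : a = b := by
  apply Nat.eq_of_testBit_eq
  intro i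
  by_cases hi : i < 52
  · have key : ∀ r : I52, ix r = i → a.testBit i = b.testBit i := by
      intro r hr
      have h1 := congrFun (congrFun h r) (Sum.inl 0)
      rw [toMat_apply, toMat_apply, ix_inl, hr] at h1
      simp only [Fin.val_zero, mul_zero, zero_add] at h1
      revert h1
      cases a.testBit i <;> cases b.testBit i <;> simp [bz]
    by_cases h4 : i < 4
    · exact key (Sum.inl ⟨i, h4⟩) rfl
    · refine key (Sum.inr ⟨i - 4, by omega⟩) ?_
      rw [ix_inr]
      show 4 + (i - 4) = i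
      omega
  · have h52 : 2 ^ 52 ≤ 2 ^ i := Nat.pow_le_pow_right (by norm_num) (by omega)
    rw [Nat.testBit_lt_two_pow (lt_of_lt_of_le ha h52), Nat.testBit_lt_two_pow (lt_of_lt_of_le hb h52)]

theorem not_mem_of_chk {ws : List (List ℕ)} {O w : List ℕ} (h : chkC (ws, O, w) = true)
    (hws : ∀ v ∈ ws, ∀ i ∈ v, i < 12) (hw : ∀ i ∈ w, i < 12) :
    (w.map yG).prod ∉ Subgroup.closure {g | ∃ v ∈ ws, g = (v.map yG).prod} := by
  unfold chkC at h
  rw [Bool.and_eq_true, Bool.and_eq_true] at h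
  obtain ⟨⟨h1, h2⟩, h3⟩ := h
  simp only at h1 h2 h3
  rw [List.all_eq_true] at h1 h2
  rw [List.any_eq_true] at h3
  obtain ⟨v, hv, h3⟩ := h3
  rw [Bool.and_eq_true, Nat.blt_eq, List.all_eq_true] at h3
  obtain ⟨h3, h4⟩ := h3
  intro hmem
  -- the invariant set
  set S : Set (Matrix I52 I52 (ZMod 2)) := {m | ∃ u ∈ O, m = toMat u} with hS
  have hSfin : S.Finite := by
    have : S = (fun u => toMat u) '' {u | u ∈ O} := by
      ext m
      constructor
      · rintro ⟨u, hu, rfl⟩; exact ⟨u, hu, rfl⟩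
      · rintro ⟨u, hu, rfl⟩; exact ⟨u, hu, rfl⟩
    rw [this]
    exact (List.finite_toSet O).image _
  have key : ∀ g ∈ Subgroup.closure {g | ∃ v ∈ ws, g = (v.map yG).prod}, ∀ m ∈ S,
      ((g : GL I52 (ZMod 2)) : Matrix I52 I52 (ZMod 2)) * m ∈ S := by
    intro g hg
    induction hg using Subgroup.closure_induction with
    | mem x hx =>
      obtain ⟨a, ha, rfl⟩ := hx
      rintro _ ⟨u, hu, rfl⟩
      have h5 := h1 a ha
      rw [List.all_eq_true] at h5
      have h6 := h5 u hu
      rw [List.any_eq_true] at h6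
      obtain ⟨u', hu', h7⟩ := h6
      refine ⟨u', hu', ?_⟩
      rw [coe_word a (hws a ha), ← toMat_evalV, Nat.eq_of_beq_eq_true h7]
    | one => intro m hm; rw [Units.val_one, Matrix.one_mul]; exact hm
    | mul a b _ _ ha hb =>
      intro m hm
      rw [Units.val_mul, Matrix.mul_assoc]
      exact ha _ (hb _ hm)
    | inv a _ ha =>
      intro m hm
      have hinj : Function.Injective (fun m : Matrix I52 I52 (ZMod 2) => (a : Matrix I52 I52 (ZMod 2)) * m) := by
        intro m1 m2 h12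
        have h8 : ((a⁻¹ : GL I52 (ZMod 2)) : Matrix I52 I52 (ZMod 2)) * ((a : Matrix I52 I52 (ZMod 2)) * m1) =
            ((a⁻¹ : GL I52 (ZMod 2)) : Matrix I52 I52 (ZMod 2)) * ((a : Matrix I52 I52 (ZMod 2)) * m2) := by
          simp only at h12; rw [h12]
        rw [← Matrix.mul_assoc, ← Matrix.mul_assoc, ← Units.val_mul, inv_mul_cancel, Units.val_one,
          Matrix.one_mul, Matrix.one_mul] at h8
        exact h8
      have himg : (fun m : Matrix I52 I52 (ZMod 2) => (a : Matrix I52 I52 (ZMod 2)) * m) '' S = S := by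
        apply Set.eq_of_subset_of_ncard_le
        · rintro _ ⟨m, hm, rfl⟩; exact ha m hm
        · rw [Set.ncard_image_of_injective S hinj]
        · exact hSfin
      rw [← himg] at hm
      obtain ⟨m', hm', rfl⟩ := hm
      simp only
      rw [← Matrix.mul_assoc, ← Units.val_mul, inv_mul_cancel, Units.val_one, Matrix.one_mul]
      exact hm'
  obtain ⟨u, hu, h5⟩ := key _ hmem (toMat v) ⟨v, hv, rfl⟩
  rw [coe_word w hw, ← toMat_evalV] at h5
  have h6 := h2 u hu
  rw [Nat.blt_eq] at h6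
  have h7 := toMat_inj_vec (by norm_num; exact h3) (by norm_num; exact h6) h5
  have h8 := h4 u hu
  rw [h7] at h8
  simp at h8

theorem certs_lt : certs.all (fun c => (c.1.all fun v => v.all fun i => Nat.blt i 12) &&
    c.2.2.all fun i => Nat.blt i 12) = true := by decide +kernel

theorem not_mem_cert {c : List (List ℕ) × List ℕ × List ℕ} (hc : c ∈ certs) :
    (c.2.2.map yG).prod ∉ Subgroup.closure {g | ∃ v ∈ c.1, g = (v.map yG).prod} := by
  have h1 := certs_ok
  rw [List.all_eq_true] at h1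
  have h2 := certs_lt
  rw [List.all_eq_true] at h2
  have h3 := h2 c hc
  rw [Bool.and_eq_true, List.all_eq_true, List.all_eq_true] at h3
  refine not_mem_of_chk (h1 c hc) (fun v hv i hi => ?_) (fun i hi => ?_)
  · have h4 := h3.1 v hv
    rw [List.all_eq_true] at h4
    have h5 := h4 i hi
    rwa [Nat.blt_eq] at h5
  · have h5 := h3.2 i hi
    rwa [Nat.blt_eq] at h5

end Cfsg.Agent.ChevalleyStructure.Tits.Mat
end

-- part: ChevalleyStructure/Tits/Order
section
/-! The order of the matrix group generated by the letters. -/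

set_option autoImplicit false

namespace Cfsg.Agent.ChevalleyStructure.Tits.Order

open Cfsg.Agent.ChevalleyStructure.Tits.Pack Cfsg.Agent.ChevalleyStructure.Tits.Data
  Cfsg.Agent.ChevalleyStructure.Tits.Cert Cfsg.Agent.ChevalleyStructure.Tits.Rank2
  Cfsg.Agent.ChevalleyStructure.Tits.Sat Cfsg.Agent.ChevalleyStructure.Tits.Final
  Cfsg.Agent.ChevalleyStructure.Tits.Mat

open scoped MatrixGroups

section Abs

variable {Γ : Type*} [Group Γ]

theorem card_lower [Finite Γ] {V K : Subgroup Γ} (hKV : K ≤ V) {g : Γ} (hg : g ∈ V) (m : ℕ)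
    (h : ∀ i, 0 < i → i < m → g ^ i ∉ K) : m * Nat.card K ≤ Nat.card V := by
  let f : Fin m × K → V := fun p => ⟨g ^ (p.1 : ℕ) * p.2, V.mul_mem (V.pow_mem hg _) (hKV p.2.2)⟩
  have key : ∀ i j : ℕ, i ≤ j → j < m → ∀ k l : Γ, k ∈ K → l ∈ K → g ^ i * k = g ^ j * l → i = j := by
    intro i j hij hj k l hk hl he
    by_contra hne
    have h1 : g ^ (j - i) ∈ K := by
      have h2 : g ^ j = g ^ i * g ^ (j - i) := by rw [← pow_add]; congr 1; omega
      rw [h2, mul_assoc] at he
      have h3 : k = g ^ (j - i) * l := mul_left_cancel he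
      have h4 : g ^ (j - i) = k * l⁻¹ := by rw [h3]; group
      rw [h4]
      exact K.mul_mem hk (K.inv_mem hl)
    exact h (j - i) (by omega) (by omega) h1
  have hf : Function.Injective f := by
    rintro ⟨i, k⟩ ⟨j, l⟩ he
    have he2 : g ^ (i : ℕ) * (k : Γ) = g ^ (j : ℕ) * (l : Γ) := congrArg Subtype.val he
    have hij : (i : ℕ) = (j : ℕ) := by
      rcases le_total (i : ℕ) (j : ℕ) with h1 | h1
      · exact key _ _ h1 j.2 _ _ k.2 l.2 he2
      · exact (key _ _ h1 i.2 _ _ l.2 k.2 he2.symm).symm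
    rw [hij] at he2
    have hkl : (k : Γ) = l := mul_left_cancel he2
    rw [Prod.mk.injEq]
    exact ⟨Fin.ext hij, Subtype.ext hkl⟩
  have h1 := Nat.card_le_card_of_injective f hf
  rwa [Nat.card_prod, Nat.card_eq_fintype_card, Fintype.card_fin] at h1

theorem comm_zpowers {a b : Γ} (h : a * b = b * a) : ∀ k ∈ Subgroup.zpowers b, a * k = k * a := by
  rintro _ ⟨n, rfl⟩
  have h1 : Commute a b := h
  exact (h1.zpow_right n).eq

theorem conj_zpowers_of_comm {a b : Γ} (h : a * b = b * a) : ∀ k ∈ Subgroup.zpowers b,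
    a * k * a⁻¹ ∈ Subgroup.zpowers b := by
  intro k hk
  rw [comm_zpowers h k hk, mul_inv_cancel_right]
  exact hk

theorem div_step [Finite Γ] {K : Subgroup Γ} {g : Γ} {p : ℕ} (hp : p.Prime)
    (hnorm : ∀ k ∈ K, g * k * g⁻¹ ∈ K) (hgp : g ^ p ∈ K) (hg : g ∉ K) {n : ℕ} (hn : n ∣ Nat.card K) :
    p * n ∣ Nat.card (Subgroup.zpowers g ⊔ K : Subgroup Γ) := by
  have h1 : Subgroup.zpowers g ≤ Subgroup.normalizer (K : Set Γ) := by
    rw [Subgroup.le_normalizer_iff]
    exact conj_zpowers (orderOf_pos g) (pow_orderOf_eq_one g) hnorm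
  set L : Subgroup Γ := Subgroup.zpowers g ⊔ K with hL
  have hKL : K ≤ L := le_sup_right
  have hnormal : (K.subgroupOf L).Normal := Subgroup.normal_subgroupOf_sup_of_le_normalizer h1
  have hgL : g ∈ L := (le_sup_left : Subgroup.zpowers g ≤ L) (Subgroup.mem_zpowers g)
  let q : L ⧸ K.subgroupOf L := QuotientGroup.mk ⟨g, hgL⟩
  have hq : q ≠ 1 := by
    intro h
    have h2 := (QuotientGroup.eq_one_iff _).mp h
    exact hg h2
  have hqp : q ^ p = 1 := by
    have : q ^ p = QuotientGroup.mk ((⟨g, hgL⟩ : L) ^ p) := rfl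
    rw [this, QuotientGroup.eq_one_iff]
    exact hgp
  have : Fact p.Prime := ⟨hp⟩
  have hord : orderOf q = p := orderOf_eq_prime hqp hq
  have h2 : p ∣ Nat.card (L ⧸ K.subgroupOf L) := by rw [← hord]; exact orderOf_dvd_natCard q
  have h3 : Nat.card (K.subgroupOf L) = Nat.card K :=
    Nat.card_congr (Subgroup.subgroupOfEquivOfLe hKL).toEquiv
  rw [Subgroup.card_eq_card_quotient_mul_card_subgroup (K.subgroupOf L), h3]
  exact Nat.mul_dvd_mul h2 hn

end Abs

/-! ### the group -/

/-- the group generated by the letters -/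
noncomputable def H0 : Subgroup (GL I52 (ZMod 2)) := Subgroup.closure (yG '' {i | i < 10})

theorem yG_mem {i : ℕ} (hi : i < 10) : yG i ∈ H0 := Subgroup.subset_closure ⟨i, hi, rfl⟩

theorem word_mem (l : List ℕ) (h : ∀ i ∈ l, i < 10) : (l.map yG).prod ∈ H0 :=
  list_prod_mem yG l (fun i hi => yG_mem (h i hi))

instance finGL : Finite (GL I52 (ZMod 2)) := inferInstance

theorem cert_lookup : ∀ k < 8, (certs.any fun c => c.1 == (List.range' (k + 1) (7 - k)).map (fun j => [j]) &&
    c.2.2 == (if k % 2 = 0 then [k] else [k, k])) = true := by decide +kernel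

theorem not_mem_V (k : ℕ) (hk : k < 8) :
    ((if k % 2 = 0 then [k] else [k, k]).map yG).prod ∉ V yG (k + 1) := by
  have h := cert_lookup k hk
  rw [List.any_eq_true] at h
  obtain ⟨c, hc, h⟩ := h
  rw [Bool.and_eq_true, beq_iff_eq, beq_iff_eq] at h
  have h1 := not_mem_cert hc
  rw [h.2] at h1
  intro h2
  apply h1
  refine (Subgroup.closure_mono ?_ : V yG (k + 1) ≤ _) h2
  rintro _ ⟨j, ⟨hj1, hj2⟩, rfl⟩
  refine ⟨[j], ?_, by simp⟩
  rw [h.1, List.mem_map]
  refine ⟨j, ?_, rfl⟩
  rw [List.mem_range']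
  exact ⟨j - (k + 1), by omega, by omega⟩

theorem V_step (k : ℕ) (hk : k < 8) : od k * Nat.card (V yG (k + 1)) ≤ Nat.card (V yG k) := by
  apply card_lower (V_mono yG (Nat.le_succ k)) (mem_V yG le_rfl hk)
  intro i hi0 hi hmem
  have h := not_mem_V k hk
  by_cases h2 : k % 2 = 0
  · rw [if_pos h2] at h
    have hod : od k = 2 := by unfold od; rw [if_pos h2]
    have hi1 : i = 1 := by omega
    subst hi1
    apply h
    simpa using hmem
  · rw [if_neg h2] at h
    have hod : od k = 4 := by unfold od; rw [if_neg h2]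
    apply h
    have h3 : (List.map yG [k, k]).prod = yG k ^ 2 := by simp [pow_two]
    rw [h3]
    have h4 : yG k ^ 4 = 1 := by
      have h9 := pow_od Sat_yG hk
      rwa [hod] at h9
    rw [hod] at hi
    have h5 : i = 1 ∨ i = 2 ∨ i = 3 := by omega
    rcases h5 with rfl | rfl | rfl
    · have := (V yG (k + 1)).pow_mem hmem 2
      rwa [pow_one] at this
    · exact hmem
    · have := (V yG (k + 1)).pow_mem hmem 2
      rw [← pow_mul] at this
      have h6 : yG k ^ (3 * 2) = yG k ^ 2 := by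
        rw [show 3 * 2 = 4 + 2 from rfl, pow_add, h4, one_mul]
      rwa [h6] at this

theorem card_V : Nat.card (V yG 0) = 4096 := by
  apply le_antisymm
  · exact (U_card Sat_yG).2
  · have h0 := V_step 0 (by norm_num)
    have h1 := V_step 1 (by norm_num)
    have h2 := V_step 2 (by norm_num)
    have h3 := V_step 3 (by norm_num)
    have h4 := V_step 4 (by norm_num)
    have h5 := V_step 5 (by norm_num)
    have h6 := V_step 6 (by norm_num)
    have h7 := V_step 7 (by norm_num)
    have h8 : Nat.card (V yG (7 + 1)) = 1 := by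
      rw [show 7 + 1 = 8 from rfl, V_eight]; exact Subgroup.card_bot
    have o0 : od 0 = 2 := rfl
    have o1 : od 1 = 4 := rfl
    have o2 : od 2 = 2 := rfl
    have o3 : od 3 = 4 := rfl
    have o4 : od 4 = 2 := rfl
    have o5 : od 5 = 4 := rfl
    have o6 : od 6 = 2 := rfl
    have o7 : od 7 = 4 := rfl
    rw [o0] at h0
    rw [o1] at h1
    rw [o2] at h2
    rw [o3] at h3
    rw [o4] at h4
    rw [o5] at h5
    rw [o6] at h6
    rw [o7] at h7
    simp only [Nat.reduceAdd] at h0 h1 h2 h3 h4 h5 h6 h7 h8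
    omega

theorem er (p : List ℕ × List ℕ) (hp : (ext.take 6 ++ ext.drop 14).contains p = true) :
    (p.1.map yG).prod = (p.2.map yG).prod :=
  ext_rel (List.contains_iff_mem.mp hp)

/-- value of a word -/
noncomputable def W (l : List ℕ) : GL I52 (ZMod 2) := (l.map yG).prod

theorem W_append (a b : List ℕ) : W (a ++ b) = W a * W b := by
  unfold W; rw [List.map_append, List.prod_append]

theorem W_nil : W [] = 1 := rfl

theorem W_mem (l : List ℕ) (h : (l.all fun i => Nat.blt i 10) = true) : W l ∈ H0 := by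
  rw [List.all_eq_true] at h
  exact word_mem l (fun i hi => by have := h i hi; rwa [Nat.blt_eq] at this)

theorem dvd13 : 13 ∣ Nat.card H0 := by
  have h1 : W [8, 7, 7, 9] ^ 13 = 1 := by
    have h := er ([8, 7, 7, 9, 8, 7, 7, 9, 8, 7, 7, 9, 8, 7, 7, 9, 8, 7, 7, 9, 8, 7, 7, 9, 8, 7, 7, 9, 8, 7, 7, 9,
      8, 7, 7, 9, 8, 7, 7, 9, 8, 7, 7, 9, 8, 7, 7, 9, 8, 7, 7, 9], []) (by decide +kernel)
    have h2 : W [8, 7, 7, 9] ^ 13 = W ([8, 7, 7, 9, 8, 7, 7, 9, 8, 7, 7, 9, 8, 7, 7, 9, 8, 7, 7, 9, 8, 7, 7, 9,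
      8, 7, 7, 9, 8, 7, 7, 9, 8, 7, 7, 9, 8, 7, 7, 9, 8, 7, 7, 9, 8, 7, 7, 9, 8, 7, 7, 9]) := by
      have h3 : ∀ n : ℕ, W [8, 7, 7, 9] ^ n = W ((List.replicate n [8, 7, 7, 9]).flatten) := by
        intro n
        induction n with
        | zero => simp [W]
        | succ n ih => rw [pow_succ', ih, List.replicate_succ, List.flatten_cons, W_append]
      exact h3 13
    rw [h2]; exact h
  have h2 : W [8, 7, 7, 9] ≠ 1 := by
    intro h
    have h3 := not_mem_cert (c := ([], [1], [8, 7, 7, 9])) (by decide +kernel)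
    apply h3
    have h4 : ((([] : List (List ℕ)), [1], [8, 7, 7, 9]).2.2.map yG).prod = W [8, 7, 7, 9] := rfl
    rw [h4, h]
    exact Subgroup.one_mem _
  have : Fact (Nat.Prime 13) := ⟨by norm_num⟩
  have h3 : orderOf (W [8, 7, 7, 9]) = 13 := orderOf_eq_prime h1 h2
  rw [← h3]
  have h4 : W [8, 7, 7, 9] ∈ H0 := W_mem _ (by decide +kernel)
  rw [← Subgroup.orderOf_mk _ h4]
  exact orderOf_dvd_natCard _

theorem dvd25 : 25 ∣ Nat.card H0 := by
  have e1 : W [9, 7, 7] ^ 5 = 1 := by
    have h := er ([9, 7, 7, 9, 7, 7, 9, 7, 7, 9, 7, 7, 9, 7, 7], []) (by decide +kernel)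
    have h2 : W [9, 7, 7] ^ 5 = W [9, 7, 7, 9, 7, 7, 9, 7, 7, 9, 7, 7, 9, 7, 7] := by
      rw [pow_succ, pow_succ, pow_succ, pow_succ, pow_one, ← W_append, ← W_append, ← W_append, ← W_append]
      rfl
    rw [h2]; exact h
  have e2 : W [8, 9, 8, 9, 7, 7, 8, 9, 8] ^ 5 = 1 := by
    have h := er ([8, 9, 8, 9, 7, 7, 8, 9, 8, 8, 9, 8, 9, 7, 7, 8, 9, 8, 8, 9, 8, 9, 7, 7, 8, 9, 8,
      8, 9, 8, 9, 7, 7, 8, 9, 8, 8, 9, 8, 9, 7, 7, 8, 9, 8], []) (by decide +kernel)
    have h2 : W [8, 9, 8, 9, 7, 7, 8, 9, 8] ^ 5 = W [8, 9, 8, 9, 7, 7, 8, 9, 8, 8, 9, 8, 9, 7, 7, 8, 9, 8, 8, 9, 8, 9, 7, 7, 8, 9, 8,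
      8, 9, 8, 9, 7, 7, 8, 9, 8, 8, 9, 8, 9, 7, 7, 8, 9, 8] := by
      rw [pow_succ, pow_succ, pow_succ, pow_succ, pow_one, ← W_append, ← W_append, ← W_append, ← W_append]
      rfl
    rw [h2]; exact h
  have e3 : W [8, 9, 8, 9, 7, 7, 8, 9, 8] * W [9, 7, 7] = W [9, 7, 7] * W [8, 9, 8, 9, 7, 7, 8, 9, 8] := by
    rw [← W_append, ← W_append]
    exact (er ([9, 7, 7, 8, 9, 8, 9, 7, 7, 8, 9, 8], [8, 9, 8, 9, 7, 7, 8, 9, 8, 9, 7, 7]) (by decide +kernel)).symm
  set f1 := W [9, 7, 7] with hf1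
  set f2 := W [8, 9, 8, 9, 7, 7, 8, 9, 8] with hf2
  have n1 : f1 ≠ 1 := by
    intro h
    have h3 := not_mem_cert (c := ([], [1], [9, 7, 7])) (by decide +kernel)
    apply h3
    have h4 : ((([] : List (List ℕ)), [1], [9, 7, 7]).2.2.map yG).prod = f1 := rfl
    rw [h4, h]
    exact Subgroup.one_mem _
  have n2 : f2 ∉ Subgroup.zpowers f1 := by
    intro h
    have h3 := not_mem_cert (c := ([[9, 7, 7]], [2164260865], [8, 9, 8, 9, 7, 7, 8, 9, 8])) (by decide +kernel)
    apply h3
    have h4 : (([[9, 7, 7]], [2164260865], [8, 9, 8, 9, 7, 7, 8, 9, 8]) : List (List ℕ) × List ℕ × List ℕ).2.2 =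
      [8, 9, 8, 9, 7, 7, 8, 9, 8] := rfl
    have h5 : Subgroup.zpowers f1 ≤ Subgroup.closure {g | ∃ v ∈ [[9, 7, 7]], g = (List.map yG v).prod} := by
      rw [Subgroup.zpowers_le]
      exact Subgroup.subset_closure ⟨[9, 7, 7], by simp, rfl⟩
    exact h5 h
  have hK : 5 ∣ Nat.card (Subgroup.zpowers f1) := by
    have : Fact (Nat.Prime 5) := ⟨by norm_num⟩
    rw [Nat.card_zpowers, orderOf_eq_prime e1 n1]
  have hcomm : ∀ k ∈ Subgroup.zpowers f1, f2 * k * f2⁻¹ ∈ Subgroup.zpowers f1 := conj_zpowers_of_comm e3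
  have h := div_step (p := 5) (by norm_num) hcomm (by rw [e2]; exact Subgroup.one_mem _) n2 hK
  refine dvd_trans h (Subgroup.card_dvd_of_le ?_)
  rw [sup_le_iff, Subgroup.zpowers_le, Subgroup.zpowers_le]
  exact ⟨W_mem _ (by decide +kernel), W_mem _ (by decide +kernel)⟩

theorem dvd27 : 27 ∣ Nat.card H0 := by
  have e1 : W [8, 0] ^ 3 = 1 := by
    have h := er ([8, 0, 8, 0, 8, 0], []) (by decide +kernel)
    have h2 : W [8, 0] ^ 3 = W [8, 0, 8, 0, 8, 0] := by
      rw [pow_succ, pow_succ, pow_one, ← W_append, ← W_append]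
      rfl
    rw [h2]; exact h
  have e2 : W [9, 8, 9, 8, 0, 9, 8, 9] ^ 3 = 1 := by
    have h := er ([9, 8, 9, 8, 0, 9, 8, 9, 9, 8, 9, 8, 0, 9, 8, 9, 9, 8, 9, 8, 0, 9, 8, 9], []) (by decide +kernel)
    have h2 : W [9, 8, 9, 8, 0, 9, 8, 9] ^ 3 = W [9, 8, 9, 8, 0, 9, 8, 9, 9, 8, 9, 8, 0, 9, 8, 9, 9, 8, 9, 8, 0, 9, 8, 9] := by
      rw [pow_succ, pow_succ, pow_one, ← W_append, ← W_append]
      rfl
    rw [h2]; exact h
  have e3 : W [9, 8, 7, 7, 7, 9, 8, 7, 7, 7, 0, 9, 0, 8, 9, 0, 7, 8, 9, 7, 8, 9] ^ 3 = 1 := by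
    have h := er ([9, 8, 7, 7, 7, 9, 8, 7, 7, 7, 0, 9, 0, 8, 9, 0, 7, 8, 9, 7, 8, 9,
      9, 8, 7, 7, 7, 9, 8, 7, 7, 7, 0, 9, 0, 8, 9, 0, 7, 8, 9, 7, 8, 9,
      9, 8, 7, 7, 7, 9, 8, 7, 7, 7, 0, 9, 0, 8, 9, 0, 7, 8, 9, 7, 8, 9], []) (by decide +kernel)
    have h2 : W [9, 8, 7, 7, 7, 9, 8, 7, 7, 7, 0, 9, 0, 8, 9, 0, 7, 8, 9, 7, 8, 9] ^ 3 =
      W [9, 8, 7, 7, 7, 9, 8, 7, 7, 7, 0, 9, 0, 8, 9, 0, 7, 8, 9, 7, 8, 9,
      9, 8, 7, 7, 7, 9, 8, 7, 7, 7, 0, 9, 0, 8, 9, 0, 7, 8, 9, 7, 8, 9,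
      9, 8, 7, 7, 7, 9, 8, 7, 7, 7, 0, 9, 0, 8, 9, 0, 7, 8, 9, 7, 8, 9] := by
      rw [pow_succ, pow_succ, pow_one, ← W_append, ← W_append]
      rfl
    rw [h2]; exact h
  have c12 : W [8, 0] * W [9, 8, 9, 8, 0, 9, 8, 9] = W [9, 8, 9, 8, 0, 9, 8, 9] * W [8, 0] := by
    rw [← W_append, ← W_append]
    exact er ([8, 0, 9, 8, 9, 8, 0, 9, 8, 9], [9, 8, 9, 8, 0, 9, 8, 9, 8, 0]) (by decide +kernel)
  have cs1 : W [9, 8, 7, 7, 7, 9, 8, 7, 7, 7, 0, 9, 0, 8, 9, 0, 7, 8, 9, 7, 8, 9] * W [8, 0] =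
      W [8, 0] * W [9, 8, 7, 7, 7, 9, 8, 7, 7, 7, 0, 9, 0, 8, 9, 0, 7, 8, 9, 7, 8, 9] := by
    rw [← W_append, ← W_append]
    exact er ([9, 8, 7, 7, 7, 9, 8, 7, 7, 7, 0, 9, 0, 8, 9, 0, 7, 8, 9, 7, 8, 9, 8, 0],
      [8, 0, 9, 8, 7, 7, 7, 9, 8, 7, 7, 7, 0, 9, 0, 8, 9, 0, 7, 8, 9, 7, 8, 9]) (by decide +kernel)
  have cs2 : W [9, 8, 7, 7, 7, 9, 8, 7, 7, 7, 0, 9, 0, 8, 9, 0, 7, 8, 9, 7, 8, 9] * W [9, 8, 9, 8, 0, 9, 8, 9] =
      W [8, 0] * W [8, 0] * W [9, 8, 9, 8, 0, 9, 8, 9] *
        W [9, 8, 7, 7, 7, 9, 8, 7, 7, 7, 0, 9, 0, 8, 9, 0, 7, 8, 9, 7, 8, 9] := by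
    rw [← W_append, ← W_append, ← W_append, ← W_append]
    exact er ([9, 8, 7, 7, 7, 9, 8, 7, 7, 7, 0, 9, 0, 8, 9, 0, 7, 8, 9, 7, 8, 9, 9, 8, 9, 8, 0, 9, 8, 9],
      [8, 0, 8, 0, 9, 8, 9, 8, 0, 9, 8, 9, 9, 8, 7, 7, 7, 9, 8, 7, 7, 7, 0, 9, 0, 8, 9, 0, 7, 8, 9, 7, 8, 9]) (by decide +kernel)
  have n1 : W [8, 0] ≠ 1 := by
    intro h
    have h3 := not_mem_cert (c := ([], [2], [8, 0])) (by decide +kernel)
    apply h3
    have h4 : ((([] : List (List ℕ)), [2], [8, 0]).2.2.map yG).prod = W [8, 0] := rfl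
    rw [h4, h]
    exact Subgroup.one_mem _
  have m1 : W [8, 0] ∈ H0 := W_mem _ (by decide +kernel)
  have m2 : W [9, 8, 9, 8, 0, 9, 8, 9] ∈ H0 := W_mem _ (by decide +kernel)
  have m3 : W [9, 8, 7, 7, 7, 9, 8, 7, 7, 7, 0, 9, 0, 8, 9, 0, 7, 8, 9, 7, 8, 9] ∈ H0 := W_mem _ (by decide +kernel)
  generalize W [8, 0] = t1 at *
  generalize W [9, 8, 9, 8, 0, 9, 8, 9] = t2 at *
  generalize W [9, 8, 7, 7, 7, 9, 8, 7, 7, 7, 0, 9, 0, 8, 9, 0, 7, 8, 9, 7, 8, 9] = s at *
  have : Fact (Nat.Prime 3) := ⟨by norm_num⟩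
  -- `s` does not commute with `t2`
  have hne : s * t2 ≠ t2 * s := by
    intro h
    rw [h] at cs2
    have h1 : t1 * t1 = 1 := by
      have h2 : 1 * (t2 * s) = (t1 * t1) * (t2 * s) := by rw [one_mul, ← mul_assoc]; exact cs2
      exact (mul_right_cancel h2).symm
    apply n1
    rw [pow_succ, pow_two, h1, one_mul] at e1
    exact e1
  have hK : 3 ∣ Nat.card (Subgroup.zpowers t1) := by
    rw [Nat.card_zpowers, orderOf_eq_prime e1 n1]
  have z2 : ∀ k ∈ Subgroup.zpowers t1, t2 * k = k * t2 := comm_zpowers c12.symm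
  have zs : ∀ k ∈ Subgroup.zpowers t1, s * k = k * s := comm_zpowers cs1
  have h2 := div_step (p := 3) (g := t2) (by norm_num)
    (fun k hk => by rw [z2 k hk, mul_inv_cancel_right]; exact hk) (by rw [e2]; exact Subgroup.one_mem _)
    (fun hmem => hne (zs t2 hmem)) hK
  set K := Subgroup.zpowers t2 ⊔ Subgroup.zpowers t1 with hKdef
  have hKc : ∀ k ∈ K, t2 * k = k * t2 := by
    intro k hk
    have hle : K ≤ Subgroup.centralizer {t2} := by
      rw [hKdef, sup_le_iff, Subgroup.zpowers_le, Subgroup.zpowers_le, Subgroup.mem_centralizer_singleton_iff,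
        Subgroup.mem_centralizer_singleton_iff]
      exact ⟨rfl, c12⟩
    have := hle hk
    rw [Subgroup.mem_centralizer_singleton_iff] at this
    exact this.symm
  have m1K : t1 ∈ K := (le_sup_right : Subgroup.zpowers t1 ≤ K) (Subgroup.mem_zpowers t1)
  have m2K : t2 ∈ K := (le_sup_left : Subgroup.zpowers t2 ≤ K) (Subgroup.mem_zpowers t2)
  have hnorm : ∀ k ∈ K, s * k * s⁻¹ ∈ K := by
    have hKcl : K = Subgroup.closure {t1, t2} := by
      rw [hKdef, Set.insert_eq, Subgroup.closure_union, ← Subgroup.zpowers_eq_closure, ← Subgroup.zpowers_eq_closure, sup_comm]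
    intro k hk
    rw [hKcl] at hk
    refine conj_closure (S := {t1, t2}) (K := K) ?_ k hk
    rintro x (rfl | rfl)
    · rw [cs1, mul_inv_cancel_right]; exact m1K
    · rw [cs2, mul_inv_cancel_right]
      exact K.mul_mem (K.mul_mem m1K m1K) m2K
  have h3 := div_step (p := 3) (g := s) (by norm_num) hnorm (by rw [e3]; exact Subgroup.one_mem _)
    (fun hmem => hne (hKc s hmem).symm) h2
  refine dvd_trans h3 (Subgroup.card_dvd_of_le ?_)
  rw [hKdef, sup_le_iff, sup_le_iff, Subgroup.zpowers_le, Subgroup.zpowers_le, Subgroup.zpowers_le]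
  exact ⟨m3, m2, m1⟩

theorem dvd4096 : 4096 ∣ Nat.card H0 := by
  rw [← card_V]
  apply Subgroup.card_dvd_of_le
  exact Subgroup.closure_mono (Set.image_mono (fun i hi => by
    have : i < 8 := hi.2
    show i < 10
    omega))

theorem card_H0 : Nat.card H0 = 35942400 := by
  apply le_antisymm
  · exact (card_le Sat_yG).2
  · have h1 : 4096 * 27 ∣ Nat.card H0 :=
      Nat.Coprime.mul_dvd_of_dvd_of_dvd (by norm_num) dvd4096 dvd27
    have h2 : 4096 * 27 * 25 ∣ Nat.card H0 :=
      Nat.Coprime.mul_dvd_of_dvd_of_dvd (by norm_num) h1 dvd25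
    have h3 : 4096 * 27 * 25 * 13 ∣ Nat.card H0 :=
      Nat.Coprime.mul_dvd_of_dvd_of_dvd (by norm_num) h2 dvd13
    have h4 := Nat.le_of_dvd Nat.card_pos h3
    norm_num at h4
    exact h4

end Cfsg.Agent.ChevalleyStructure.Tits.Order
end

-- part: ChevalleyStructure/Tits/Main
section
/-! ²F₄(2) and the Tits group. -/

set_option autoImplicit false

namespace Cfsg.Agent.ChevalleyStructure.Tits.Main

open Cfsg.Agent.ChevalleyStructure.Tits.Pack Cfsg.Agent.ChevalleyStructure.Tits.Data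
  Cfsg.Agent.ChevalleyStructure.Tits.Cert Cfsg.Agent.ChevalleyStructure.Tits.Rank2
  Cfsg.Agent.ChevalleyStructure.Tits.Sat Cfsg.Agent.ChevalleyStructure.Tits.Final
  Cfsg.Agent.ChevalleyStructure.Tits.Mat Cfsg.Agent.ChevalleyStructure.Tits.Order
  Cfsg.Agent.ChevalleyStructure.Tits.Table

open scoped MatrixGroups

/-! ### the letters inside the group -/

/-- the letters as elements of the group `H0` -/
noncomputable def yH (i : ℕ) : H0 := if h : i < 10 then ⟨yG i, yG_mem h⟩ else 1

theorem coe_yH {i : ℕ} (h : i < 10) : ((yH i : H0) : GL I52 (ZMod 2)) = yG i := by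
  unfold yH
  rw [dif_pos h]

theorem coe_list (l : List ℕ) (h : ∀ i ∈ l, i < 10) :
    (((l.map yH).prod : H0) : GL I52 (ZMod 2)) = (l.map yG).prod := by
  induction l with
  | nil => simp
  | cons a l ih =>
    rw [List.map_cons, List.prod_cons, List.map_cons, List.prod_cons, Subgroup.coe_mul,
      ih (fun i hi => h i (List.mem_cons_of_mem a hi)), coe_yH (h a List.mem_cons_self)]

theorem rels_lt : rels.all (fun p => (p.1.all fun i => Nat.blt i 10) && p.2.all fun i => Nat.blt i 10) = true := by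
  decide +kernel

theorem Sat_yH : Sat yH := by
  intro p hp
  have h := rels_lt
  rw [List.all_eq_true] at h
  have h2 := h p hp
  rw [Bool.and_eq_true, List.all_eq_true, List.all_eq_true] at h2
  apply Subtype.ext
  rw [coe_list _ (fun i hi => by have := h2.1 i hi; rwa [Nat.blt_eq] at this),
    coe_list _ (fun i hi => by have := h2.2 i hi; rwa [Nat.blt_eq] at this)]
  exact Sat_yG p hp

theorem map_closure_yH (s : Set ℕ) (hs : ∀ i ∈ s, i < 10) :
    (Subgroup.closure (yH '' s)).map H0.subtype = Subgroup.closure (yG '' s) := by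
  rw [MonoidHom.map_closure, Set.image_image]
  congr 1
  apply Set.image_congr
  intro i hi
  exact coe_yH (hs i hi)

theorem gen_yH : Subgroup.closure (yH '' {i | i < 10}) = ⊤ := by
  apply Subgroup.map_injective H0.subtype_injective
  rw [map_closure_yH {i | i < 10} (fun i hi => hi), ← MonoidHom.range_eq_map, Subgroup.range_subtype]
  rfl

theorem map_V : (V yH 0).map H0.subtype = V yG 0 :=
  map_closure_yH _ (fun i hi => by have : i < 8 := hi.2; omega)

theorem card_V_yH : Nat.card (V yH 0) = 4096 := by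
  rw [← card_V, ← map_V]
  exact Nat.card_congr ((V yH 0).equivMapOfInjective H0.subtype H0.subtype_injective).toEquiv

/-! ### the core -/

/-- the highest root vector -/
def v0 : ℕ := 2251799813685248

theorem V_fix : ∀ g ∈ V yG 0, ((g : GL I52 (ZMod 2)) : Matrix I52 I52 (ZMod 2)) * toMat v0 = toMat v0 := by
  intro g hg
  induction hg using Subgroup.closure_induction with
  | mem x hx =>
    obtain ⟨i, hi, rfl⟩ := hx
    have hi8 : i < 8 := hi.2
    have h := fix_ok
    rw [List.all_eq_true] at h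
    have h2 := Nat.eq_of_beq_eq_true (h i (List.mem_range.mpr hi8))
    rw [coe_yG (by omega), LM, ← toMat_mulP]
    exact congrArg toMat h2
  | one => rw [Units.val_one, Matrix.one_mul]
  | mul a b _ _ ha hb => rw [Units.val_mul, Matrix.mul_assoc, hb, ha]
  | inv a _ ha =>
    conv_lhs => rw [← ha]
    rw [← Matrix.mul_assoc, ← Units.val_mul, inv_mul_cancel, Units.val_one, Matrix.one_mul]

/-- vectors of the basis are in the orbit of the highest root vector -/
theorem reach (k : ℕ) (hk : k < 52) : ∃ g ∈ H0,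
    ((g : GL I52 (ZMod 2)) : Matrix I52 I52 (ZMod 2)) * toMat v0 = toMat (vs.getD k 0) := by
  induction k using Nat.strong_induction_on with
  | _ k ih =>
    rcases k with _ | k
    · refine ⟨1, H0.one_mem, ?_⟩
      rw [Units.val_one, Matrix.one_mul]
      rfl
    · have h := spin_ok
      rw [List.all_eq_true] at h
      have h2 := h k (List.mem_range.mpr (by omega))
      rw [Bool.and_eq_true, Bool.and_eq_true, Nat.ble_eq, Nat.blt_eq] at h2
      obtain ⟨⟨h3, h4⟩, h5⟩ := h2
      obtain ⟨g, hg, hg2⟩ := ih (par.getD (k + 1) (0, 0)).2 (by omega) (by omega)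
      refine ⟨yG (par.getD (k + 1) (0, 0)).1 * g, H0.mul_mem (yG_mem h4) hg, ?_⟩
      rw [Units.val_mul, Matrix.mul_assoc, hg2, coe_yG (by omega), LM, ← toMat_mulP,
        Nat.eq_of_beq_eq_true h5]

theorem basis_col (i j : I52) : toMat basisP i j = toMat (vs.getD (ix j) 0) i (Sum.inl 0) := by
  have h := basis_cols
  rw [List.all_eq_true] at h
  have h2 := Nat.eq_of_beq_eq_true (h (ix j) (List.mem_range.mpr (ix_lt j)))
  rw [toMat_apply, toMat_apply, ← h2]
  have h3 : (4503599627370496 : ℕ) = 2 ^ 52 := by norm_num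
  rw [h3, Nat.testBit_mod_two_pow, Nat.testBit_shiftRight, ix_inl]
  have h4 : 52 * ((0 : Fin 4) : ℕ) + ix i < 52 := by
    have := ix_lt i
    simp only [Fin.val_zero, mul_zero, zero_add]
    exact this
  simp only [h4, decide_true, Bool.true_and]
  simp only [Fin.val_zero, mul_zero, zero_add]

theorem eq_one_of_fix (n : GL I52 (ZMod 2))
    (h : ∀ k < 52, (n : Matrix I52 I52 (ZMod 2)) * toMat (vs.getD k 0) = toMat (vs.getD k 0)) : n = 1 := by
  have h1 : (n : Matrix I52 I52 (ZMod 2)) * toMat basisP = toMat basisP := by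
    ext i j
    rw [basis_col i j, ← h (ix j) (ix_lt j), Matrix.mul_apply, Matrix.mul_apply]
    apply Finset.sum_congr rfl
    intro l _
    rw [basis_col l j]
  have h2 : toMat basisP * toMat basisInv = 1 := by
    rw [← toMat_mulP, Nat.eq_of_beq_eq_true basis_ok, toMat_oneP]
  apply Units.ext
  calc (n : Matrix I52 I52 (ZMod 2)) = n * (toMat basisP * toMat basisInv) := by rw [h2, Matrix.mul_one]
    _ = (n * toMat basisP) * toMat basisInv := by rw [Matrix.mul_assoc]
    _ = 1 := by rw [h1, h2]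

theorem core (N : Subgroup H0) (hN : N.Normal) (hle : N ≤ V yH 0) : N = ⊥ := by
  rw [eq_bot_iff]
  intro n hn
  rw [Subgroup.mem_bot]
  apply Subtype.ext
  show (n : GL I52 (ZMod 2)) = 1
  apply eq_one_of_fix
  intro k hk
  obtain ⟨g, hg, hg2⟩ := reach k hk
  have h1 : (⟨g, hg⟩⁻¹ : H0) * n * (⟨g, hg⟩⁻¹ : H0)⁻¹ ∈ N := hN.conj_mem n hn _
  have h2 : ((((⟨g, hg⟩⁻¹ : H0) * n * (⟨g, hg⟩⁻¹ : H0)⁻¹ : H0)) : GL I52 (ZMod 2)) ∈ V yG 0 := by
    rw [← map_V]
    exact ⟨_, hle h1, rfl⟩
  have h3 := V_fix _ h2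
  have h4 : ((((⟨g, hg⟩⁻¹ : H0) * n * (⟨g, hg⟩⁻¹ : H0)⁻¹ : H0)) : GL I52 (ZMod 2)) = g⁻¹ * n * g := by
    rw [inv_inv]; rfl
  rw [h4, Units.val_mul, Units.val_mul] at h3
  rw [← hg2]
  calc ((n : GL I52 (ZMod 2)) : Matrix I52 I52 (ZMod 2)) * ((g : Matrix I52 I52 (ZMod 2)) * toMat v0)
      = (g : Matrix I52 I52 (ZMod 2)) * (((g⁻¹ : GL I52 (ZMod 2)) : Matrix I52 I52 (ZMod 2)) *
          ((n : GL I52 (ZMod 2)) : Matrix I52 I52 (ZMod 2)) * (g : Matrix I52 I52 (ZMod 2)) * toMat v0) := by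
        have h5 : (g : Matrix I52 I52 (ZMod 2)) * ((g⁻¹ : GL I52 (ZMod 2)) : Matrix I52 I52 (ZMod 2)) = 1 := by
          rw [← Units.val_mul, mul_inv_cancel, Units.val_one]
        simp only [← Matrix.mul_assoc]
        rw [h5, Matrix.one_mul]
    _ = (g : Matrix I52 I52 (ZMod 2)) * toMat v0 := by rw [h3]

theorem yH_ne_one {i : ℕ} (hi : i < 8) : yH i ≠ 1 := by
  intro h
  have h1 := not_mem_V i hi
  have h2 : yG i = 1 := by
    rw [← coe_yH (by omega), h]; rfl
  apply h1
  split_ifs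
  · simp [h2]
  · simp [h2]

theorem H0_result : (commutator H0).index = 2 ∧ IsSimpleGroup (commutator H0) ∧
    ¬ IsMulCommutative (commutator H0) ∧ Nat.card (commutator H0) = 2 ^ 11 * 3 ^ 3 * 5 ^ 2 * 13 :=
  Final.main Sat_yH gen_yH card_H0 card_V_yH core (yH_ne_one (by norm_num)) (yH_ne_one (by norm_num))

/-! ### identification with the group of the definition -/

theorem x_zero (r : ℕ) : Cfsg.Lie.chevF4.x (ZMod 2) r 0 = 1 := by
  unfold Cfsg.Lie.ChevalleyDatum.x
  split_ifs with h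
  · apply Matrix.ext
    intro row col
    have hchain : ∀ s u : ℕ, ((Cfsg.Lie.chevF4.chainCoeff r s u).map
        fun km => ((km.2 : ℤ) : ZMod 2) * (0 : ZMod 2) ^ km.1).sum = 0 := by
      intro s u
      apply List.sum_eq_zero
      intro z hz
      rw [List.mem_map] at hz
      obtain ⟨km, hkm, rfl⟩ := hz
      unfold Cfsg.Lie.ChevalleyDatum.chainCoeff at hkm
      rw [List.mem_flatMap] at hkm
      obtain ⟨e, _, he⟩ := hkm
      rw [List.mem_map] at he
      obtain ⟨q, _, rfl⟩ := he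
      simp
    rcases col with j | s
    · rcases row with i | u
      · show (if i = j then (1 : ZMod 2) else 0) = _
        rw [Matrix.one_apply]
        by_cases hij : i = j
        · subst hij; simp
        · have : (Sum.inl i : Fin 4 ⊕ Fin 48) ≠ Sum.inl j := fun h2 => hij (Sum.inl.inj h2)
          rw [if_neg hij]
          exact (if_neg this).symm
      · show (if u = ⟨r, h⟩ then - (((Cfsg.Lie.chevF4.cartanSR.getD j.val #[]).getD r 0 : ℤ) : ZMod 2) * 0 else 0) = _
        rw [Matrix.one_apply]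
        have : (Sum.inr u : Fin 4 ⊕ Fin 48) ≠ Sum.inl j := fun h2 => by cases h2
        rw [mul_zero, ite_self]
        exact (if_neg this).symm
    · rcases row with i | u
      · show (if s = ⟨r, h⟩ then (0 : ZMod 2) else if s.val = Cfsg.Lie.chevF4.negIdx.getD r 0 then
          (((Cfsg.Lie.chevF4.coroot.getD r #[]).getD i.val 0 : ℤ) : ZMod 2) * 0 else 0) = _
        rw [Matrix.one_apply]
        have : (Sum.inl i : Fin 4 ⊕ Fin 48) ≠ Sum.inr s := fun h2 => by cases h2
        rw [mul_zero, ite_self, ite_self]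
        exact (if_neg this).symm
      · show (if s = ⟨r, h⟩ then (if u = ⟨r, h⟩ then (1 : ZMod 2) else 0)
          else if s.val = Cfsg.Lie.chevF4.negIdx.getD r 0 then
            (if u = s then 1 else if u = ⟨r, h⟩ then -((0 : ZMod 2) ^ 2) else 0)
          else (if u = s then 1 else 0) +
            ((Cfsg.Lie.chevF4.chainCoeff r s.val u.val).map
              fun km => ((km.2 : ℤ) : ZMod 2) * (0 : ZMod 2) ^ km.1).sum) = _
        rw [hchain, add_zero]
        have hgoal : (1 : Matrix (Fin 4 ⊕ Fin 48) (Fin 4 ⊕ Fin 48) (ZMod 2)) (Sum.inr u) (Sum.inr s) =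
            if u = s then 1 else 0 := by
          rw [Matrix.one_apply]
          by_cases hus : u = s
          · subst hus; simp
          · have : (Sum.inr u : Fin 4 ⊕ Fin 48) ≠ Sum.inr s := fun h2 => hus (Sum.inr.inj h2)
            rw [if_neg hus]
            exact if_neg this
        refine Eq.trans ?_ hgoal.symm
        by_cases hs : s = ⟨r, h⟩
        · subst hs; simp
        · rw [if_neg hs]
          simp
  · rfl

/-- matrix of the word of root elements -/
noncomputable def WM (w : List (ℕ × ZMod 2)) : Matrix I52 I52 (ZMod 2) := Cfsg.Lie.chevF4.wordMat (ZMod 2) w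

/-- root element as a matrix over `I52` -/
noncomputable def XM (r : ℕ) (t : ZMod 2) : Matrix I52 I52 (ZMod 2) := Cfsg.Lie.chevF4.x (ZMod 2) r t

theorem WM_nil : WM [] = 1 := rfl

theorem WM_cons (r : ℕ) (t : ZMod 2) (w : List (ℕ × ZMod 2)) : WM ((r, t) :: w) = XM r t * WM w := by
  unfold WM XM Cfsg.Lie.ChevalleyDatum.wordMat
  rw [List.map_cons, List.prod_cons]
  rfl

theorem XM_zero (r : ℕ) : XM r 0 = 1 := x_zero r

theorem XM_one {r k : ℕ} (h : (([(33, 12), (24, 13), (14, 14), (23, 15), (27, 16), (25, 17), (28, 18), (30, 19), (20, 20),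
    (22, 21), (19, 22), (17, 23)] : List (ℕ × ℕ)).contains (r, k)) = true) (hr : r < 48) : XM r 1 = LM k := by
  have h1 := chk_all
  rw [List.all_eq_true] at h1
  exact x_eq_of_chk r k hr (h1 (r, k) (List.contains_iff_mem.mp h))

theorem er' (p : List ℕ × List ℕ) (hp : ext.contains p = true) : (p.1.map LM).prod = (p.2.map LM).prod := by
  have h1 := ext_ok
  rw [List.all_eq_true] at h1
  exact eq_of_chk (h1 p (List.contains_iff_mem.mp hp))

theorem mA : WM [(33, 1), (24, 1)] = LM 0 := by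
  have h := er' ([12, 13], [0]) (by decide +kernel)
  simp only [List.map_cons, List.map_nil, List.prod_cons, List.prod_nil, mul_one] at h
  rw [WM_cons, WM_cons, WM_nil, mul_one, XM_one (r := 33) (k := 12) (by decide +kernel) (by norm_num),
    XM_one (r := 24) (k := 13) (by decide +kernel) (by norm_num), h]

theorem mA' : WM [(14, 1), (23, 1)] = LM 10 := by
  have h := er' ([14, 15], [10]) (by decide +kernel)
  simp only [List.map_cons, List.map_nil, List.prod_cons, List.prod_nil, mul_one] at h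
  rw [WM_cons, WM_cons, WM_nil, mul_one, XM_one (r := 14) (k := 14) (by decide +kernel) (by norm_num),
    XM_one (r := 23) (k := 15) (by decide +kernel) (by norm_num), h]

theorem mC : WM [(27, 1), (25, 1), (28, 1), (30, 0)] = LM 7 := by
  have h := er' ([16, 17, 18], [7]) (by decide +kernel)
  simp only [List.map_cons, List.map_nil, List.prod_cons, List.prod_nil, mul_one] at h
  rw [WM_cons, WM_cons, WM_cons, WM_cons, WM_nil, mul_one, XM_zero, mul_one,
    XM_one (r := 27) (k := 16) (by decide +kernel) (by norm_num),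
    XM_one (r := 25) (k := 17) (by decide +kernel) (by norm_num),
    XM_one (r := 28) (k := 18) (by decide +kernel) (by norm_num), h]

theorem mD : WM [(27, 0), (25, 0), (28, 1), (30, 1)] = LM 7 * LM 7 := by
  have h := er' ([18, 19], [7, 7]) (by decide +kernel)
  simp only [List.map_cons, List.map_nil, List.prod_cons, List.prod_nil, mul_one] at h
  rw [WM_cons, WM_cons, WM_cons, WM_cons, WM_nil, mul_one, XM_zero, XM_zero, one_mul, one_mul,
    XM_one (r := 28) (k := 18) (by decide +kernel) (by norm_num),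
    XM_one (r := 30) (k := 19) (by decide +kernel) (by norm_num), h]

theorem mE : WM [(27, 1), (25, 1), (28, 0), (30, 1)] = LM 7 * (LM 7 * LM 7) := by
  have h := er' ([16, 17, 19], [7, 7, 7]) (by decide +kernel)
  simp only [List.map_cons, List.map_nil, List.prod_cons, List.prod_nil, mul_one] at h
  rw [WM_cons, WM_cons, WM_cons, WM_cons, WM_nil, mul_one, XM_zero, one_mul,
    XM_one (r := 27) (k := 16) (by decide +kernel) (by norm_num),
    XM_one (r := 25) (k := 17) (by decide +kernel) (by norm_num),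
    XM_one (r := 30) (k := 19) (by decide +kernel) (by norm_num), h]

theorem mC' : WM [(20, 1), (22, 1), (19, 1), (17, 0)] = LM 11 := by
  have h := er' ([20, 21, 22], [11]) (by decide +kernel)
  simp only [List.map_cons, List.map_nil, List.prod_cons, List.prod_nil, mul_one] at h
  rw [WM_cons, WM_cons, WM_cons, WM_cons, WM_nil, mul_one, XM_zero, mul_one,
    XM_one (r := 20) (k := 20) (by decide +kernel) (by norm_num),
    XM_one (r := 22) (k := 21) (by decide +kernel) (by norm_num),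
    XM_one (r := 19) (k := 22) (by decide +kernel) (by norm_num), h]

theorem mD' : WM [(20, 0), (22, 0), (19, 1), (17, 1)] = LM 11 * LM 11 := by
  have h := er' ([22, 23], [11, 11]) (by decide +kernel)
  simp only [List.map_cons, List.map_nil, List.prod_cons, List.prod_nil, mul_one] at h
  rw [WM_cons, WM_cons, WM_cons, WM_cons, WM_nil, mul_one, XM_zero, XM_zero, one_mul, one_mul,
    XM_one (r := 19) (k := 22) (by decide +kernel) (by norm_num),
    XM_one (r := 17) (k := 23) (by decide +kernel) (by norm_num), h]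

theorem mE' : WM [(20, 1), (22, 1), (19, 0), (17, 1)] = LM 11 * (LM 11 * LM 11) := by
  have h := er' ([20, 21, 23], [11, 11, 11]) (by decide +kernel)
  simp only [List.map_cons, List.map_nil, List.prod_cons, List.prod_nil, mul_one] at h
  rw [WM_cons, WM_cons, WM_cons, WM_cons, WM_nil, mul_one, XM_zero, one_mul,
    XM_one (r := 20) (k := 20) (by decide +kernel) (by norm_num),
    XM_one (r := 22) (k := 21) (by decide +kernel) (by norm_num),
    XM_one (r := 17) (k := 23) (by decide +kernel) (by norm_num), h]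

/-- the list of generating words over `ZMod 2` -/
def genWords : List (List (ℕ × ZMod 2)) :=
  [[(33, 0), (24, 0)], [(33, 1), (24, 1)], [(14, 0), (23, 0)], [(14, 1), (23, 1)],
   [(27, 0), (25, 0), (28, 0), (30, 0)], [(27, 1), (25, 1), (28, 1), (30, 0)],
   [(27, 0), (25, 0), (28, 1), (30, 1)], [(27, 1), (25, 1), (28, 0), (30, 1)],
   [(20, 0), (22, 0), (19, 0), (17, 0)], [(20, 1), (22, 1), (19, 1), (17, 0)],
   [(20, 0), (22, 0), (19, 1), (17, 1)], [(20, 1), (22, 1), (19, 0), (17, 1)]]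

theorem mem_words (w : List (ℕ × ZMod 2)) : w ∈ Cfsg.Lie.f4Words (ZMod 2) 1 ↔ w ∈ genWords := by
  have ht : ∀ t : ZMod 2, t = 0 ∨ t = 1 := by decide
  unfold Cfsg.Lie.f4Words
  constructor
  · rintro (⟨t, h⟩ | ⟨t, u, h⟩)
    · rcases ht t with rfl | rfl <;> rcases h with rfl | rfl <;> decide
    · rcases ht t with rfl | rfl <;> rcases ht u with rfl | rfl <;> rcases h with rfl | rfl <;> decide
  · intro h
    unfold genWords at h
    simp only [List.mem_cons, List.not_mem_nil, or_false] at h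
    rcases h with rfl | rfl | rfl | rfl | rfl | rfl | rfl | rfl | rfl | rfl | rfl | rfl
    · exact Or.inl ⟨0, Or.inl (by decide)⟩
    · exact Or.inl ⟨1, Or.inl (by decide)⟩
    · exact Or.inl ⟨0, Or.inr (by decide)⟩
    · exact Or.inl ⟨1, Or.inr (by decide)⟩
    · exact Or.inr ⟨0, 0, Or.inl (by decide)⟩
    · exact Or.inr ⟨1, 0, Or.inl (by decide)⟩
    · exact Or.inr ⟨0, 1, Or.inl (by decide)⟩
    · exact Or.inr ⟨1, 1, Or.inl (by decide)⟩
    · exact Or.inr ⟨0, 0, Or.inr (by decide)⟩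
    · exact Or.inr ⟨1, 0, Or.inr (by decide)⟩
    · exact Or.inr ⟨0, 1, Or.inr (by decide)⟩
    · exact Or.inr ⟨1, 1, Or.inr (by decide)⟩

/-- the group of the definition -/
noncomputable def T0 : Subgroup (GL I52 (ZMod 2)) := Cfsg.Lie.twistedF4 (ZMod 2) 1

theorem T0_eq_closure : T0 = Subgroup.closure {g : GL I52 (ZMod 2) | ∃ w ∈ genWords,
    (g : Matrix I52 I52 (ZMod 2)) = WM w} := by
  unfold T0 Cfsg.Lie.twistedF4 Cfsg.Lie.ChevalleyDatum.genSubgroup
  have : {g : GL I52 (ZMod 2) | ∃ w ∈ Cfsg.Lie.f4Words (ZMod 2) 1, (g : Matrix I52 I52 (ZMod 2)) = WM w} =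
      {g : GL I52 (ZMod 2) | ∃ w ∈ genWords, (g : Matrix I52 I52 (ZMod 2)) = WM w} := by
    ext g
    constructor
    · rintro ⟨w, hw, h⟩; exact ⟨w, (mem_words w).mp hw, h⟩
    · rintro ⟨w, hw, h⟩; exact ⟨w, (mem_words w).mpr hw, h⟩
  rw [← this]
  rfl

theorem gen_mem_T0 {w : List (ℕ × ZMod 2)} (hw : w ∈ genWords) {g : GL I52 (ZMod 2)}
    (h : (g : Matrix I52 I52 (ZMod 2)) = WM w) : g ∈ T0 := by
  rw [T0_eq_closure]
  exact Subgroup.subset_closure ⟨w, hw, h⟩

theorem er2 (p : List ℕ × List ℕ) (hp : (ext.take 6 ++ ext.drop 14).contains p = true) :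
    (p.1.map yG).prod = (p.2.map yG).prod := er p hp

theorem T0_eq_H0 : T0 = H0 := by
  have e8 := er2 ([8], [0, 10, 0]) (by decide +kernel)
  have e9 := er2 ([9], [7, 7, 7, 11, 7, 7]) (by decide +kernel)
  have e10 := er2 ([10], [8, 0, 8]) (by decide +kernel)
  have e11 := er2 ([11], [9, 7, 9]) (by decide +kernel)
  simp only [List.map_cons, List.map_nil, List.prod_cons, List.prod_nil, mul_one] at e8 e9 e10 e11
  apply le_antisymm
  · have m0 : yG 0 ∈ H0 := yG_mem (by norm_num)
    have m7 : yG 7 ∈ H0 := yG_mem (by norm_num)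
    have m8 : yG 8 ∈ H0 := yG_mem (by norm_num)
    have m9 : yG 9 ∈ H0 := yG_mem (by norm_num)
    have m10 : yG 10 ∈ H0 := by rw [e10]; exact H0.mul_mem m8 (H0.mul_mem m0 m8)
    have m11 : yG 11 ∈ H0 := by rw [e11]; exact H0.mul_mem m9 (H0.mul_mem m7 m9)
    have c0 : ((yG 0 : GL I52 (ZMod 2)) : Matrix I52 I52 (ZMod 2)) = LM 0 := coe_yG (by norm_num)
    have c7 : ((yG 7 : GL I52 (ZMod 2)) : Matrix I52 I52 (ZMod 2)) = LM 7 := coe_yG (by norm_num)
    have c10 : ((yG 10 : GL I52 (ZMod 2)) : Matrix I52 I52 (ZMod 2)) = LM 10 := coe_yG (by norm_num)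
    have c11 : ((yG 11 : GL I52 (ZMod 2)) : Matrix I52 I52 (ZMod 2)) = LM 11 := coe_yG (by norm_num)
    have fin : ∀ (g k : GL I52 (ZMod 2)), (g : Matrix I52 I52 (ZMod 2)) = (k : Matrix I52 I52 (ZMod 2)) →
        k ∈ H0 → g ∈ H0 := by
      intro g k h hk
      rw [Units.ext h]; exact hk
    rw [T0_eq_closure, Subgroup.closure_le]
    rintro g ⟨w, hw, hg⟩
    unfold genWords at hw
    simp only [List.mem_cons, List.not_mem_nil, or_false] at hw
    rcases hw with rfl | rfl | rfl | rfl | rfl | rfl | rfl | rfl | rfl | rfl | rfl | rfl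
    · refine fin g 1 ?_ H0.one_mem
      rw [hg, WM_cons, WM_cons, WM_nil, XM_zero, XM_zero, mul_one, mul_one, Units.val_one]
    · refine fin g (yG 0) ?_ m0
      rw [hg, mA, c0]
    · refine fin g 1 ?_ H0.one_mem
      rw [hg, WM_cons, WM_cons, WM_nil, XM_zero, XM_zero, mul_one, mul_one, Units.val_one]
    · refine fin g (yG 10) ?_ m10
      rw [hg, mA', c10]
    · refine fin g 1 ?_ H0.one_mem
      rw [hg, WM_cons, WM_cons, WM_cons, WM_cons, WM_nil, XM_zero, XM_zero, XM_zero, XM_zero, mul_one, mul_one,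
        mul_one, mul_one, Units.val_one]
    · refine fin g (yG 7) ?_ m7
      rw [hg, mC, c7]
    · refine fin g (yG 7 * yG 7) ?_ (H0.mul_mem m7 m7)
      rw [hg, mD, Units.val_mul, c7]
    · refine fin g (yG 7 * (yG 7 * yG 7)) ?_ (H0.mul_mem m7 (H0.mul_mem m7 m7))
      rw [hg, mE, Units.val_mul, Units.val_mul, c7]
    · refine fin g 1 ?_ H0.one_mem
      rw [hg, WM_cons, WM_cons, WM_cons, WM_cons, WM_nil, XM_zero, XM_zero, XM_zero, XM_zero, mul_one, mul_one,
        mul_one, mul_one, Units.val_one]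
    · refine fin g (yG 11) ?_ m11
      rw [hg, mC', c11]
    · refine fin g (yG 11 * yG 11) ?_ (H0.mul_mem m11 m11)
      rw [hg, mD', Units.val_mul, c11]
    · refine fin g (yG 11 * (yG 11 * yG 11)) ?_ (H0.mul_mem m11 (H0.mul_mem m11 m11))
      rw [hg, mE', Units.val_mul, Units.val_mul, c11]
  · have m0 : yG 0 ∈ T0 := gen_mem_T0 (w := [(33, 1), (24, 1)]) (by decide) (by rw [coe_yG (by norm_num), mA])
    have m7 : yG 7 ∈ T0 := gen_mem_T0 (w := [(27, 1), (25, 1), (28, 1), (30, 0)]) (by decide)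
      (by rw [coe_yG (by norm_num), mC])
    have m10 : yG 10 ∈ T0 := gen_mem_T0 (w := [(14, 1), (23, 1)]) (by decide) (by rw [coe_yG (by norm_num), mA'])
    have m11 : yG 11 ∈ T0 := gen_mem_T0 (w := [(20, 1), (22, 1), (19, 1), (17, 0)]) (by decide)
      (by rw [coe_yG (by norm_num), mC'])
    have m8 : yG 8 ∈ T0 := by rw [e8]; exact T0.mul_mem m0 (T0.mul_mem m10 m0)
    have m9 : yG 9 ∈ T0 := by
      rw [e9]
      exact T0.mul_mem m7 (T0.mul_mem m7 (T0.mul_mem m7 (T0.mul_mem m11 (T0.mul_mem m7 m7))))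
    exact gen4 Sat_yG T0 m0 m7 m8 m9

theorem result_aux (K : Subgroup (GL I52 (ZMod 2))) (hK : K = H0) : (commutator K).index = 2 ∧
    IsSimpleGroup (commutator K) ∧ ¬ IsMulCommutative (commutator K) ∧
      Nat.card (commutator K) = 2 ^ 11 * 3 ^ 3 * 5 ^ 2 * 13 := by
  subst hK
  exact H0_result

end Cfsg.Agent.ChevalleyStructure.Tits.Main
end
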